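import Cfsg.Agent.Lib.TwoPRegular.Kernel
import Cfsg.Agent.Lib.PrimePowerClass.Basic

/-!
If two primes different from `p` act, the common index is a power of `p`.
-/

set_option autoImplicit false
set_option linter.style.haveILetI false

namespace Cfsg.Agent.Lib.TwoPRegular

open Subgroup Cfsg.Agent.Lib.TwoClassSizes
open scoped commutatorElement

variable {G : Type*} [Group G] [Finite G] {p m : ℕ} (S : Setup p G m) (T : TwoAct p G)

include S T in
/-- A solvable normal subgroup cannot contain a noncentral regular element. -/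
theorem false_of_solvable {q r : ℕ} [hq : Fact q.Prime] [hr : Fact r.Prime] (hqp : q ≠ p) (hqm : q ∣ m)
    (hrA : Act p G r) (hrm : ¬ r ∣ m)
    (H : Subgroup G) (hHn : H.Normal) (hHs : Group.IsSolvable H)
    (hH : ∃ y ∈ H, Reg p y ∧ y ∉ center G) : False := by
  classical
  have hrp := hrA.2.1
  have hqr : q ≠ r := fun h => hrm (h ▸ hqm)
  obtain ⟨L, hLle, hL⟩ := Finite.exists_le_minimal
    (p := fun L : Subgroup G => L.Normal ∧ Group.IsSolvable L ∧ ∃ y ∈ L, Reg p y ∧ y ∉ center G)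
    (a := H) ⟨hHn, hHs, hH⟩
  obtain ⟨hLn, hLs, y₀, hy₀, hy₀r, hy₀c⟩ := hL.1
  haveI := hLn
  -- the derived subgroup has only central regular elements
  set L' : Subgroup G := ⁅L, L⁆ with hL'
  haveI hL'n : L'.Normal := Subgroup.commutator_normal L L
  have hL'le : L' ≤ L := Subgroup.commutator_le_left L L
  have hL'ne : L' ≠ L := by
    intro h
    have hd : derivedSeries L 1 = ⊤ := by
      refine Subgroup.map_injective L.subtype_injective ?_
      rw [derivedSeries_one, commutator_def, Subgroup.map_commutator, ← MonoidHom.range_eq_map,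
        Subgroup.range_subtype]
      exact h
    obtain ⟨k, hk⟩ := (Group.isSolvable_def (G := L)).1 hLs
    have hall : ∀ k, derivedSeries L k = ⊤ := by
      intro k
      induction k with
      | zero => rfl
      | succ k ih =>
        rw [derivedSeries_succ, ih]
        rw [derivedSeries_one, commutator_def] at hd
        exact hd
    rw [hall k] at hk
    have : (⟨y₀, hy₀⟩ : L) ∈ (⊥ : Subgroup L) := hk ▸ mem_top _
    exact hy₀c (by
      have h1 : y₀ = 1 := congrArg Subtype.val (mem_bot.1 this)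
      rw [h1]; exact one_mem _)
  have hcent : ∀ z ∈ L', Reg p z → z ∈ center G := by
    intro z hz hzr
    by_contra hzc
    haveI : Group.IsSolvable L' :=
      Group.isSolvable_of_isSolvable_injective (Subgroup.inclusion_injective hL'le)
    exact hL'ne (le_antisymm hL'le (hL.2 ⟨hL'n, inferInstance, z, hz, hzr, hzc⟩ hL'le))
  -- a Sylow subgroup of `L` with a noncentral element
  obtain ⟨s, hs, y₁, hy₁, hy₁o, hy₁c⟩ := exists_primary_notMem hy₀c
  haveI := Fact.mk hs
  have hsp : s ≠ p := by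
    rintro rfl
    obtain ⟨k, hk⟩ := hy₁o
    have hd : orderOf y₁ ∣ orderOf y₀ := by
      rw [← Nat.card_zpowers y₀]
      exact Subgroup.orderOf_dvd_natCard _ hy₁
    refine hy₁c ?_
    rw [orderOf_eq_one_iff.1 (Nat.eq_one_of_dvd_coprimes (hy₀r.pow_right k) hd (hk ▸ dvd_rfl))]
    exact one_mem _
  have hy₁L : y₁ ∈ L := zpowers_le.2 hy₀ hy₁
  obtain ⟨P, hP⟩ := (isPGroup_zpowers' (p := s)
    (x := (⟨y₁, hy₁L⟩ : L)) (by rwa [Subgroup.orderOf_mk])).exists_le_sylow
  set M : Subgroup G := (P : Subgroup L).map L.subtype with hM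
  have hMp : IsPGroup s M := P.2.map _
  have hMne : ¬ M ≤ center G := fun h => hy₁c (h ⟨_, hP (mem_zpowers _), rfl⟩)
  have hML : M ≤ L := map_subtype_le _
  haveI hL1n : (L' ⊔ M).Normal := by
    refine ⟨fun w hw g => ?_⟩
    have hge : ∀ g ∈ L, ∀ w ∈ M, g * w * g⁻¹ ∈ L' ⊔ M := fun g hg w hw => by
      rw [show g * w * g⁻¹ = ⁅g, w⁆ * w by rw [commutatorElement_def]; group]
      exact mul_mem (mem_sup_left (Subgroup.commutator_mem_commutator hg (hML hw))) (mem_sup_right hw)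
    obtain ⟨n, hn, l, hl, rfl⟩ : ∃ n ∈ normalizer (M : Set G), ∃ l ∈ L, g = l * n := by
      have h := Sylow.normalizer_sup_eq_top P
      rw [← hM, sup_comm] at h
      obtain ⟨l, hl, n, hn, rfl⟩ := Subgroup.mem_sup_of_normal_left.1 (h.ge (mem_top g))
      exact ⟨n, hn, l, hl, rfl⟩
    obtain ⟨a, ha, b, hb, rfl⟩ : ∃ a ∈ L', ∃ b ∈ M, w = a * b := by
      obtain ⟨a, ha, b, hb, rfl⟩ := Subgroup.mem_sup_of_normal_left.1 hw
      exact ⟨a, ha, b, hb, rfl⟩
    rw [show l * n * (a * b) * (l * n)⁻¹ = (l * n) * a * (l * n)⁻¹ * (l * (n * b * n⁻¹) * l⁻¹) by group]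
    exact mul_mem (mem_sup_left (hL'n.conj_mem a ha _)) (hge l hl _ ((mem_normalizer_iff.1 hn b).1 hb))
  have hL1 : L' ⊔ M = L := by
    refine le_antisymm (sup_le hL'le hML) (hL.2 ⟨hL1n, ?_, ?_⟩ (sup_le hL'le hML))
    · exact Group.isSolvable_of_isSolvable_injective (Subgroup.inclusion_injective (sup_le hL'le hML))
    · exact ⟨y₁, mem_sup_right ⟨_, hP (mem_zpowers _), rfl⟩, reg_of_primePow S.prime hs hsp hy₁o, hy₁c⟩
  have hother : ∀ {t : ℕ}, t.Prime → t ≠ s → ∀ z ∈ L, (∃ k, orderOf z = t ^ k) → z ∈ L' := by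
    intro t ht hts z hz ⟨k, hk⟩
    rw [← hL1] at hz
    obtain ⟨a, ha, b, hb, rfl⟩ := Subgroup.mem_sup_of_normal_left.1 hz
    obtain ⟨j, hj⟩ := exists_orderOf_eq_pow hMp hb
    refine (QuotientGroup.eq_one_iff (a * b)).1 ?_
    have hab : ((a * b : G) : G ⧸ L') = (b : G ⧸ L') := by
      rw [QuotientGroup.mk_mul, (QuotientGroup.eq_one_iff a).2 ha, one_mul]
    rw [← orderOf_eq_one_iff]
    refine Nat.eq_one_of_dvd_coprimes (coprime_of_prime_pow ht hs hts (k := k) (j := j)) ?_ ?_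
    · exact hk ▸ orderOf_map_dvd (QuotientGroup.mk' L') (a * b)
    · rw [hab]; exact hj ▸ orderOf_map_dvd (QuotientGroup.mk' L') b
  -- `M` lies in one centraliser
  obtain ⟨y, hyM, hyc, -, hyco⟩ := exists_nearly_central (p := s) hMp le_rfl
    (fun a ha b hb => mul_mem (mul_mem ha hb) (inv_mem ha)) hMne
  have hyo := exists_orderOf_eq_pow hMp hyM
  have hyr := reg_of_primePow S.prime hs hsp hyo
  have hMN : ∀ g ∈ M, g ∈ normalizer (cen y : Set G) := fun g hg =>
    mem_normalizer S T hyr hyc hyr hyc (self_mem_cen y) (by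
      rw [show g * y * g⁻¹ = ⁅g, y⁆ * y by rw [commutatorElement_def]; group]
      exact mul_mem (mem_cen.2 ((mem_center_iff.1 (hyco g hg) y).symm)) (self_mem_cen y))
  have hMC : M ≤ cen y := by
    intro g hg
    by_contra hgy
    obtain ⟨t, ht, hts⟩ := T s
    obtain ⟨w, hw, hwc, hwo⟩ := exists_other S ht hts.symm hs hsp hyo hyc
    have hwr := reg_of_primePow S.prime ht.1 ht.2.1 hwo
    refine hwc (mem_center_of_fix S T hyr hyc hwr hw hgy (commute_of_comm_central ?_ ?_))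
    · have hgw : g * w * g⁻¹ ∈ cen y := (mem_normalizer_iff.1 (hMN g hg) w).1 hw
      have hct := comm_reg S T hyr hyc (reg_conj hwr g) hgw (inv_mem hw)
      obtain ⟨k, hk⟩ := hwo
      have hpow : orderOf ⁅g, w⁆ ∣ t ^ k := by
        refine orderOf_dvd_of_pow_eq_one ?_
        rw [commutatorElement_def, hct.mul_pow, conj_pow, inv_pow, ← hk, pow_orderOf_eq_one]
        group
      obtain ⟨j, -, hj⟩ := (Nat.dvd_prime_pow ht.1).1 hpow
      refine hcent _ (hother ht.1 hts _ ?_ ⟨j, hj⟩) (reg_of_primePow S.prime ht.1 ht.2.1 ⟨j, hj⟩)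
      rw [commutatorElement_def, show g * w * g⁻¹ * w⁻¹ = g * (w * g⁻¹ * w⁻¹) by group]
      exact mul_mem (hML hg) (hLn.conj_mem _ (inv_mem (hML hg)) w)
    · obtain ⟨j, hj⟩ := exists_orderOf_eq_pow hMp hg
      obtain ⟨k, hk⟩ := hwo
      rw [hj, hk]; exact coprime_of_prime_pow hs ht.1 hts.symm
  have hG : L' ⊔ normalizer (cen y : Set G) = ⊤ := by
    rw [eq_top_iff, ← Sylow.normalizer_sup_eq_top P, ← hM]
    refine sup_le (le_sup_of_le_right fun g hg => ?_) ?_
    · exact mem_normalizer S T hyr hyc hyr hyc (self_mem_cen y)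
        (hMC ((mem_normalizer_iff.1 hg y).1 hyM))
    · exact hL1.ge.trans (sup_le le_sup_left (le_sup_of_le_right hMN))
  have hprod : ∀ g : G, ∃ h ∈ L', ∃ n ∈ normalizer (cen y : Set G), g = h * n := fun g => by
    obtain ⟨h, hh, n, hn, rfl⟩ := Subgroup.mem_sup_of_normal_left.1 (hG.ge (mem_top g))
    exact ⟨h, hh, n, hn, rfl⟩
  -- every `r`-element is congruent to one of the centraliser
  obtain ⟨R, hR⟩ := exists_sylow_le S (q := r) hrm hyr hyc
  have hRc : ∀ z ∈ cen y, (∃ k, orderOf z = r ^ k) → z ∈ (R : Subgroup G) := by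
    intro z hz hzo
    have hp' : IsPGroup r (zpowers z ⊔ (R : Subgroup G) : Subgroup G) :=
      (isPGroup_zpowers' hzo).to_sup_of_normal_right' R.2 (zpowers_le.2 (mem_normalizer_iff.2 fun w => by
        have key : ∀ w ∈ (R : Subgroup G), z * w * z⁻¹ = w := fun w hw => mul_inv_eq_iff_eq_mul.2
          (comm_reg S T hyr hyc (reg_of_primePow S.prime hr.out hrp hzo) hz (hR hw)).eq
        refine ⟨fun hw => (key w hw).symm ▸ hw, fun hw => ?_⟩
        have h2 := key _ hw
        have h3 : z * w * z⁻¹ = w := mul_left_cancel (mul_right_cancel h2)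
        rwa [h3] at hw))
    exact (R.is_maximal' hp' le_sup_right).le (mem_sup_left (mem_zpowers z))
  have hmodR : ∀ w : G, (∃ k, orderOf w = r ^ k) → ∃ h ∈ L', ∃ a ∈ (R : Subgroup G), w = h * a := by
    intro w hw
    obtain ⟨R', hR'⟩ := (isPGroup_zpowers' hw).exists_le_sylow
    obtain ⟨g, rfl⟩ := MulAction.exists_smul_eq G R R'
    obtain ⟨a, ha, hae⟩ := hR' (mem_zpowers w)
    have hae' : g * a * g⁻¹ = w := hae
    obtain ⟨h, hh, n, hn, rfl⟩ := hprod g
    have hna : n * a * n⁻¹ ∈ (R : Subgroup G) :=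
      hRc _ ((mem_normalizer_iff.1 hn a).1 (hR ha)) (by
        rw [orderOf_conj']; exact exists_orderOf_eq_pow R.2 ha)
    refine ⟨h * ((n * a * n⁻¹) * h⁻¹ * (n * a * n⁻¹)⁻¹),
      mul_mem hh (hL'n.conj_mem _ (inv_mem hh) _), _, hna, ?_⟩
    rw [← hae']; group
  -- hence the centraliser contains a Sylow q-subgroup
  have hqC : ∀ u ∈ normalizer (cen y : Set G), (∃ k, orderOf u = q ^ k) → u ∈ cen y := by
    intro u hu huo
    by_cases huc : u ∈ center G
    · exact mem_cen.2 (mem_center_iff.1 huc y).symm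
    obtain ⟨w, hw, hwc, hwo⟩ := exists_other S hrA hqr hq.out hqp huo huc
    obtain ⟨h, hh, a, ha, rfl⟩ := hmodR w hwo
    obtain ⟨ka, hka⟩ := exists_orderOf_eq_pow R.2 ha
    have har := reg_of_primePow S.prime hr.out hrp ⟨ka, hka⟩
    by_contra huy
    have hua : ⁅u, a⁆ ∈ L' := by
      have h1 : ((u : G ⧸ L')) * (a : G ⧸ L') = (a : G ⧸ L') * u := by
        have h2 := congrArg (fun t : G => (t : G ⧸ L')) (mem_cen.1 hw : h * a * u = u * (h * a))
        simp only [QuotientGroup.mk_mul, (QuotientGroup.eq_one_iff h).2 hh, one_mul] at h2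
        exact h2.symm
      refine (QuotientGroup.eq_one_iff _).1 ?_
      show QuotientGroup.mk' L' ⁅u, a⁆ = 1
      rw [map_commutatorElement, commutatorElement_eq_one_iff_mul_comm]
      exact h1
    have hua' : ⁅u, a⁆ ∈ center G := by
      refine hcent _ hua ?_
      rw [commutatorElement_def]
      exact reg_mul (comm_reg S T hyr hyc (reg_conj har u) ((mem_normalizer_iff.1 hu a).1 (hR ha))
        (inv_mem (hR ha))) (reg_conj har u) (reg_inv har)
    have hac : a ∈ center G := mem_center_of_fix S T hyr hyc har (hR ha) huy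
      (commute_of_comm_central hua' (by
        obtain ⟨i, hi⟩ := huo
        rw [hi, hka]; exact coprime_of_prime_pow hq.out hr.out hqr))
    refine hwc (mul_mem (hcent h hh ?_) hac)
    have h1 : h = h * a * a⁻¹ := by group
    rw [h1]
    exact reg_mul (show Commute (h * a) a⁻¹ from (mem_center_iff.1 (inv_mem hac) (h * a)))
      (reg_of_primePow S.prime hr.out hrp hwo) (reg_inv har)
  obtain ⟨Q⟩ : Nonempty (Sylow q (normalizer (cen y : Set G))) := inferInstance
  set Q₁ : Subgroup G := (Q : Subgroup (normalizer (cen y : Set G))).map (normalizer (cen y : Set G)).subtype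
  have hQ₁ : Q₁ ≤ cen y := by
    rintro _ ⟨u, hu, rfl⟩
    exact hqC u u.2 (by
      obtain ⟨k, hk⟩ := exists_orderOf_eq_pow Q.2 hu
      exact ⟨k, by rw [← hk]; exact Subgroup.orderOf_coe u⟩)
  have hd : q ∣ (Q₁).index := (hqm.trans (S.index y hyr hyc ▸ index_dvd_of_le hQ₁))
  rw [index_map_subtype] at hd
  rcases hq.out.dvd_mul.1 hd with hd | hd
  · exact Q.not_dvd_index hd
  · -- the index of the normaliser comes from `L'`
    set N := normalizer (cen y : Set G)
    have hidx : N.index = (N.subgroupOf L').index := by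
      have h1 : L'.relIndex (N ⊔ L') = L'.relIndex N := Subgroup.relIndex_sup_right N L'
      rw [sup_comm, hG, relIndex_top_right] at h1
      have h2 := Subgroup.relIndex_mul_relIndex ⊥ (L' ⊓ N) N bot_le inf_le_right
      have h3 := Subgroup.relIndex_mul_relIndex ⊥ (L' ⊓ N) L' bot_le inf_le_left
      rw [Subgroup.relIndex_bot_left, Subgroup.relIndex_bot_left, Subgroup.inf_relIndex_right] at h2
      rw [Subgroup.relIndex_bot_left, Subgroup.relIndex_bot_left, Subgroup.inf_relIndex_left] at h3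
      show N.index = N.relIndex L'
      refine Nat.eq_of_mul_eq_mul_left (Nat.card_pos (α := N)) ?_
      rw [card_mul_index, ← card_mul_index L', h1, ← h3, ← h2]
      ring
    obtain ⟨Q₂⟩ : Nonempty (Sylow q L') := inferInstance
    refine Q₂.not_dvd_index (hd.trans (hidx ▸ index_dvd_of_le fun z hz => ?_))
    refine mem_subgroupOf.2 (Subgroup.le_normalizer (mem_cen.2 (mem_center_iff.1
      (hcent _ z.2 (reg_of_primePow S.prime hq.out hqp ?_)) y).symm))
    obtain ⟨k, hk⟩ := exists_orderOf_eq_pow Q₂.2 hz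
    exact ⟨k, by rw [← hk]; exact Subgroup.orderOf_coe z⟩

include S T in
/-- The elements of `r`-power order of a centraliser, and their image modulo the centre. -/
theorem exists_rPart {r : ℕ} [hr : Fact r.Prime] (hrp : r ≠ p) {x : G} (hx : Reg p x)
    (hxc : x ∉ center G) :
    ∃ A : Subgroup G, IsPGroup r A ∧ A ≤ cen x ∧ (∀ z ∈ cen x, (∃ k, orderOf z = r ^ k) → z ∈ A) ∧
      Nat.card A = r ^ (Nat.card (cen x)).factorization r := by
  obtain ⟨R, -, hR⟩ := exists_sylow_inf (p := r) (cen x) (P := ⊥) IsPGroup.of_bot bot_le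
  refine ⟨(R : Subgroup G) ⊓ cen x, R.2.to_le inf_le_left, inf_le_right, fun z hz hzo => ?_, hR⟩
  have hcomm : ∀ w ∈ ((R : Subgroup G) ⊓ cen x : Subgroup G), Commute z w := fun w hw =>
    comm_reg S T hx hxc (reg_of_primePow S.prime hr.out hrp hzo) hz hw.2
  have hnorm : zpowers z ≤ normalizer (((R : Subgroup G) ⊓ cen x : Subgroup G) : Set G) := by
    refine zpowers_le.2 (mem_normalizer_iff.2 fun w => ⟨fun hw => ?_, fun hw => ?_⟩)
    · rwa [(hcomm w hw).eq, mul_inv_cancel_right]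
    · have h2 : z * (z * w * z⁻¹) * z⁻¹ = z * w * z⁻¹ := by rw [(hcomm _ hw).eq, mul_inv_cancel_right]
      rwa [mul_left_cancel (mul_right_cancel h2)] at hw
  have hp' := (isPGroup_zpowers' hzo).to_sup_of_normal_right' (R.2.to_le inf_le_left) hnorm
  have h1 := card_le_ordProj hp' (sup_le (zpowers_le.2 hz) inf_le_right)
  rw [← hR] at h1
  rw [eq_of_le_of_card_ge le_sup_right h1]
  exact mem_sup_left (mem_zpowers z)

omit [Finite G] in
theorem card_map_mk (A : Subgroup G) :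
    Nat.card (A.map (QuotientGroup.mk' (center G))) * Nat.card (A ⊓ center G : Subgroup G) =
      Nat.card A := by
  have h := Subgroup.relIndex_mul_relIndex ⊥ (A ⊓ center G) A bot_le inf_le_left
  rw [Subgroup.relIndex_bot_left, Subgroup.relIndex_bot_left, Subgroup.inf_relIndex_left,
    ← QuotientGroup.ker_mk' (center G), Subgroup.relIndex_ker] at h
  rw [mul_comm]
  simpa using h

include S T in
/-- The order of the `r`-part modulo the centre does not depend on the element. -/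
theorem card_rPart_eq {r : ℕ} [hr : Fact r.Prime] {x y : G} (hx : Reg p x)
    (hxc : x ∉ center G) (hy : Reg p y) (hyc : y ∉ center G) {A B : Subgroup G}
    (hA : IsPGroup r A) (hA' : ∀ z ∈ cen x, (∃ k, orderOf z = r ^ k) → z ∈ A)
    (hAc : Nat.card A = r ^ (Nat.card (cen x)).factorization r)
    (hB : IsPGroup r B) (hB' : ∀ z ∈ cen y, (∃ k, orderOf z = r ^ k) → z ∈ B)
    (hBc : Nat.card B = r ^ (Nat.card (cen y)).factorization r) :
    Nat.card (A.map (QuotientGroup.mk' (center G))) = Nat.card (B.map (QuotientGroup.mk' (center G))) := by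
  have hZ : A ⊓ center G = B ⊓ center G := by
    ext z
    refine ⟨fun hz => ⟨hB' z ?_ (exists_orderOf_eq_pow hA hz.1), hz.2⟩,
      fun hz => ⟨hA' z ?_ (exists_orderOf_eq_pow hB hz.1), hz.2⟩⟩ <;>
    exact mem_cen.2 ((mem_center_iff.1 hz.2 _).symm)
  have h1 := card_map_mk A
  rw [hAc, card_cen_eq S hx hxc hy hyc, ← hBc, ← card_map_mk B, hZ] at h1
  exact Nat.eq_of_mul_eq_mul_right Nat.card_pos h1

include S T in
/-- `q`-elements of another centraliser normalising `cen x` are few. -/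
theorem card_lt_of_moving {q r : ℕ} [hq : Fact q.Prime] [hr : Fact r.Prime] (hqr : q ≠ r)
    (hqp : q ≠ p) (hrA : Act p G r) {x y : G} (hx : Reg p x) (hxc : x ∉ center G)
    (hxo : ∃ k, orderOf x = q ^ k) (hy : Reg p y) (hyc : y ∉ center G) (hne : cen x ≠ cen y)
    {A B : Subgroup G} (hA : IsPGroup r A) (hAx : A ≤ cen x)
    (hA' : ∀ z ∈ cen x, (∃ k, orderOf z = r ^ k) → z ∈ A) (hB : IsPGroup q B) (hBy : B ≤ cen y)
    (hBN : B ≤ normalizer (cen x : Set G)) :
    Nat.card (B.map (QuotientGroup.mk' (center G))) < Nat.card (A.map (QuotientGroup.mk' (center G))) := by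
  classical
  set π := QuotientGroup.mk' (center G)
  obtain ⟨w, hwx, hwc, hwo⟩ := exists_other S hrA hqr hq.out hqp hxo hxc
  have hwA := hA' w hwx hwo
  have hwr := reg_of_primePow S.prime hr.out hrA.2.1 hwo
  have hmem : ∀ b : B.map π, (b : G ⧸ center G) * π w * (b : G ⧸ center G)⁻¹ ∈ A.map π := by
    rintro ⟨_, b, hb, rfl⟩
    refine ⟨b * w * b⁻¹, hA' _ ((mem_normalizer_iff.1 (hBN hb) w).1 hwx) ?_, by simp [map_mul, map_inv]⟩
    rw [orderOf_conj']; exact hwo
  let f : B.map π → A.map π := fun b => ⟨_, hmem b⟩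
  have hf : Function.Injective f := by
    rintro ⟨_, a, ha, rfl⟩ ⟨_, b, hb, rfl⟩ h
    have h1 : π (b⁻¹ * a) * π w * (π (b⁻¹ * a))⁻¹ = π w := by
      have h2 : π a * π w * (π a)⁻¹ = π b * π w * (π b)⁻¹ := congrArg Subtype.val h
      calc π (b⁻¹ * a) * π w * (π (b⁻¹ * a))⁻¹ = (π b)⁻¹ * (π a * π w * (π a)⁻¹) * π b := by
            rw [map_mul, map_inv]; group
        _ = π w := by rw [h2]; group
    have hg : b⁻¹ * a ∈ B := mul_mem (inv_mem hb) ha
    have h3 : ⁅b⁻¹ * a, w⁆ ∈ center G := by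
      rw [← QuotientGroup.eq_one_iff]
      show π ⁅b⁻¹ * a, w⁆ = 1
      rw [map_commutatorElement, commutatorElement_eq_one_iff_mul_comm]
      exact mul_inv_eq_iff_eq_mul.1 h1
    obtain ⟨i, hi⟩ := exists_orderOf_eq_pow hB hg
    have hcm := commute_of_comm_central h3 (by
      obtain ⟨j, hj⟩ := hwo
      rw [hi, hj]; exact coprime_of_prime_pow hq.out hr.out hqr)
    have hgx : b⁻¹ * a ∈ cen x := by
      by_contra hgx
      exact hwc (mem_center_of_fix S T hx hxc hwr hwx hgx hcm)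
    have hgc : b⁻¹ * a ∈ center G := by
      by_contra hgc
      have hgr := reg_of_primePow S.prime hq.out hqp ⟨i, hi⟩
      exact hne ((cen_eq S T hx hxc hgr hgc hgx).trans (cen_eq S T hy hyc hgr hgc (hBy hg)).symm)
    refine Subtype.ext ?_
    show π a = π b
    have h4 : π (b⁻¹ * a) = 1 := (QuotientGroup.eq_one_iff _).2 hgc
    rw [map_mul, map_inv, inv_mul_eq_one] at h4
    exact h4.symm
  haveI := Fintype.ofFinite (B.map π)
  haveI := Fintype.ofFinite (A.map π)
  rw [Nat.card_eq_fintype_card, Nat.card_eq_fintype_card]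
  refine Fintype.card_lt_of_injective_of_notMem f hf (b := 1) ?_
  rintro ⟨⟨b, hb⟩, hbe⟩
  refine hwc ((QuotientGroup.eq_one_iff w).1 ?_)
  exact conj_eq_one_iff.1 (congrArg Subtype.val hbe : b * π w * b⁻¹ = 1)

include S T in
/-- A Sylow subgroup of a prime dividing `m` that normalises `cen x`. -/
theorem sylow_image {s : ℕ} [hs : Fact s.Prime] (hsp : s ≠ p) (hsm : s ∣ m) {x : G} (hx : Reg p x)
    (hxc : x ∉ center G) (P : Sylow s G) (hP : (P : Subgroup G) ≤ nrm x) {a : G} (hax : a ∈ cen x)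
    (hac : a ∉ center G) (hao : ∃ k, orderOf a = s ^ k)
    (hPa : ∀ g ∈ (P : Subgroup G), ⁅g, a⁆ ∈ center G) :
    Good x s ∧ (∃ R : Sylow s (quo x), IsMulCommutative (R : Subgroup (quo x))) ∧
      s ∣ Nat.card (quo x) := by
  have har := reg_of_primePow S.prime hs.out hsp hao
  refine ⟨fun g hg hgo => ?_, ?_, ?_⟩
  · obtain ⟨i, hi⟩ := hgo
    obtain ⟨P', hP'⟩ := (isPGroup_zpowers' (p := s) (x := (⟨g, hg⟩ : nrm x))
      ⟨i, by rw [Subgroup.orderOf_mk, hi]⟩).exists_le_sylow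
    obtain ⟨n, rfl⟩ := MulAction.exists_smul_eq (nrm x) (P.subtype hP) P'
    obtain ⟨t, ht, hte⟩ := hP' (mem_zpowers _)
    have hge : (n : G) * t * (n : G)⁻¹ = g := congrArg Subtype.val hte
    refine ⟨(n : G) * a * (n : G)⁻¹, (mem_normalizer_iff.1 n.2 a).1 hax,
      fun h => hac (mem_center_of_conj h), by rw [orderOf_conj']; exact hao, ?_⟩
    rw [← hge, show ⁅(n : G) * t * (n : G)⁻¹, (n : G) * a * (n : G)⁻¹⁆ = (n : G) * ⁅(t : G), a⁆ * (n : G)⁻¹ by
      rw [commutatorElement_def, commutatorElement_def]; group]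
    exact conj_mem_center (hPa _ ht)
  · refine ⟨(P.subtype hP).mapSurjective (QuotientGroup.mk'_surjective _), ⟨⟨?_⟩⟩⟩
    rintro ⟨_, u, hu, rfl⟩ ⟨_, v, hv, rfl⟩
    refine Subtype.ext ?_
    show QuotientGroup.mk' _ u * QuotientGroup.mk' _ v = QuotientGroup.mk' _ v * QuotientGroup.mk' _ u
    rw [← commutatorElement_eq_one_iff_mul_comm, ← map_commutatorElement]
    refine (QuotientGroup.eq_one_iff _).2 ?_
    show ((⁅u, v⁆ : nrm x) : G) ∈ cen x
    rw [cen_eq S T hx hxc har hac hax]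
    have h := commutator_mem_cen (hPa _ hu) (hPa _ hv)
    simpa [commutatorElement_def] using h
  · by_contra hd
    have hle : (P : Subgroup G) ≤ cen x := fun g hg => by
      obtain ⟨k, hk⟩ := exists_orderOf_eq_pow P.2 hg
      refine (QuotientGroup.eq_one_iff (N := (cen x).subgroupOf (nrm x)) (⟨g, hP hg⟩ : nrm x)).1
        (orderOf_eq_one_iff.1 ?_)
      refine Nat.eq_one_of_dvd_coprimes ((hs.out.coprime_iff_not_dvd.2 hd).pow_left k) ?_
        (orderOf_dvd_natCard _)
      refine (orderOf_map_dvd (QuotientGroup.mk' ((cen x).subgroupOf (nrm x))) (⟨g, hP hg⟩ : nrm x)).trans ?_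
      rw [Subgroup.orderOf_mk, hk]
    exact P.not_dvd_index (hsm.trans (S.index x hx hxc ▸ index_dvd_of_le hle))

include S T in
/-- All centralisers are conjugate to that of `xq`, the element of `Q`: then no other prime divides
`m`. -/
theorem false_of_single {q r : ℕ} [hq : Fact q.Prime] [hr : Fact r.Prime] (hqr : q ≠ r) (hqp : q ≠ p)
    (hrp : r ≠ p) (hqm : q ∣ m) (hrm : r ∣ m) {xq : G} (hxqr : Reg p xq) (hxqc : xq ∉ center G)
    (Q : Sylow q G) (hxq : xq ∈ (Q : Subgroup G)) (hQc : ∀ g ∈ (Q : Subgroup G), ⁅g, xq⁆ ∈ center G)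
    (hQN : (Q : Subgroup G) ≤ nrm xq)
    (hsingle : ∀ y : G, Reg p y → y ∉ center G → ∃ g : G, cen (g * y * g⁻¹) = cen xq) : False := by
  obtain ⟨R⟩ : Nonempty (Sylow r G) := inferInstance
  obtain ⟨xr, hxr, hxrc, hxrr, hRc, hRN⟩ :=
    exists_good S T (act_of_dvd S hxqr hxqc hr.out hrp hrm) R
  obtain ⟨g, hg⟩ := hsingle xr hxrr hxrc
  obtain ⟨gq, ⟨Q', hQ'⟩, dq⟩ := sylow_image S T hqp hqm hxqr hxqc Q hQN (self_mem_cen xq) hxqc
    (exists_orderOf_eq_pow Q.2 hxq) hQc
  have hgR : ((g • R : Sylow r G) : Subgroup G) ≤ nrm xq := by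
    rintro _ ⟨t, ht, rfl⟩
    show g * t * g⁻¹ ∈ normalizer (cen xq : Set G)
    rw [← hg]
    refine mem_normalizer S T (reg_conj hxrr g) (fun h => hxrc (mem_center_of_conj h))
      (reg_conj hxrr g) (fun h => hxrc (mem_center_of_conj h)) (self_mem_cen _) ?_
    rw [show g * t * g⁻¹ * (g * xr * g⁻¹) * (g * t * g⁻¹)⁻¹ = g * (⁅t, xr⁆ * xr) * g⁻¹ by
      rw [commutatorElement_def]; group, conj_mem_cen_iff]
    exact mul_mem (mem_cen.2 ((mem_center_iff.1 (hRc t ht) xr).symm)) (self_mem_cen xr)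
  obtain ⟨gr, ⟨R', hR'⟩, dr⟩ := sylow_image S T hrp hrm hxqr hxqc (g • R) hgR
    (hg ▸ self_mem_cen (g * xr * g⁻¹)) (fun h => hxrc (mem_center_of_conj h))
    (by rw [orderOf_conj']; exact exists_orderOf_eq_pow R.2 hxr) (by
      rintro _ ⟨t, ht, rfl⟩
      show ⁅g * t * g⁻¹, g * xr * g⁻¹⁆ ∈ center G
      rw [show ⁅g * t * g⁻¹, g * xr * g⁻¹⁆ = g * ⁅t, xr⁆ * g⁻¹ by
        rw [commutatorElement_def, commutatorElement_def]; group]
      exact conj_mem_center (hRc t ht))
  exact false_of_two S T hxqr hxqc hqr hqp hrp gq gr Q' R' hQ' hR' dq dr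

include S T in
/-- A centraliser not conjugate to that of `x` has fewer `q`-elements than `cen x` has `r`-elements. -/
theorem card_lt_of_not_single {q r : ℕ} [hq : Fact q.Prime] [hr : Fact r.Prime] (hqr : q ≠ r)
    (hqp : q ≠ p) (hrA : Act p G r) {x x₀ : G} (hx : Reg p x) (hxc : x ∉ center G) (Q : Sylow q G)
    (hxQ : x ∈ (Q : Subgroup G)) (hQN : (Q : Subgroup G) ≤ nrm x) {y : G} (hy : Reg p y)
    (hyc : y ∉ center G) (hne : ∀ g : G, cen (g * y * g⁻¹) ≠ cen x)
    (hx₀ : Reg p x₀) (hx₀c : x₀ ∉ center G) {Aq Ar : Subgroup G} (hAq : IsPGroup q Aq)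
    (hAq' : ∀ z ∈ cen x₀, (∃ k, orderOf z = q ^ k) → z ∈ Aq)
    (hAqc : Nat.card Aq = q ^ (Nat.card (cen x₀)).factorization q)
    (hAr : IsPGroup r Ar) (hAr' : ∀ z ∈ cen x₀, (∃ k, orderOf z = r ^ k) → z ∈ Ar)
    (hArc : Nat.card Ar = r ^ (Nat.card (cen x₀)).factorization r) :
    Nat.card (Aq.map (QuotientGroup.mk' (center G))) < Nat.card (Ar.map (QuotientGroup.mk' (center G))) := by
  obtain ⟨B, hB, hBy, hB', hBc⟩ := exists_rPart S T (r := q) hqp hy hyc
  obtain ⟨Q', hQ'⟩ := hB.exists_le_sylow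
  obtain ⟨g, hg⟩ := MulAction.exists_smul_eq G Q' Q
  have hy' := reg_conj hy g
  have hyc' : g * y * g⁻¹ ∉ center G := fun h => hyc (mem_center_of_conj h)
  set c := (MulAut.conj g).toMonoidHom
  have hBQ : B.map c ≤ (Q : Subgroup G) := by
    rw [← hg]; exact map_mono hQ'
  have hBy' : B.map c ≤ cen (g * y * g⁻¹) := by rw [cen_conj]; exact map_mono hBy
  have hB'' : ∀ z ∈ cen (g * y * g⁻¹), (∃ k, orderOf z = q ^ k) → z ∈ B.map c := by
    intro z hz hzo
    refine ⟨g⁻¹ * z * g, hB' _ (mem_cen_conj.1 hz) ?_, show g * (g⁻¹ * z * g) * g⁻¹ = z by group⟩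
    rwa [show g⁻¹ * z * g = g⁻¹ * z * g⁻¹⁻¹ by rw [inv_inv], orderOf_conj']
  have hBc' : Nat.card (B.map c) = q ^ (Nat.card (cen (g * y * g⁻¹))).factorization q := by
    rw [card_map_of_injective (MulAut.conj g).injective, hBc, card_cen_eq S hy hyc hy' hyc']
  obtain ⟨A, hA, hAx, hA', hAc⟩ := exists_rPart S T (r := r) hrA.2.1 hx hxc
  have h := card_lt_of_moving S T hqr hqp hrA hx hxc (exists_orderOf_eq_pow Q.2 hxQ) hy' hyc'
    (hne g).symm hA hAx hA' (hB.map c) hBy' (hBQ.trans hQN)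
  rwa [card_rPart_eq S T hy' hyc' hx₀ hx₀c (hB.map c) hB'' hBc' hAq hAq' hAqc,
    card_rPart_eq S T hx hxc hx₀ hx₀c hA hA' hAc hAr hAr' hArc] at h

include S T in
/-- The index is a power of `p`. -/
theorem eq_of_dvd_index {x₀ : G} (hx₀ : Reg p x₀) (hx₀c : x₀ ∉ center G) {q : ℕ} (hq : q.Prime)
    (hqm : q ∣ m) : q = p := by
  by_contra hqp
  haveI := Fact.mk hq
  have hqA := act_of_dvd S hx₀ hx₀c hq hqp hqm
  obtain ⟨Q⟩ : Nonempty (Sylow q G) := inferInstance
  obtain ⟨xq, hxq, hxqc, hxqr, hQc, hQN⟩ := exists_good S T hqA Q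
  by_cases htwo : ∃ r, r.Prime ∧ r ≠ p ∧ r ≠ q ∧ r ∣ m
  · obtain ⟨r, hr, hrp, hrq, hrm⟩ := htwo
    haveI := Fact.mk hr
    have hrA := act_of_dvd S hx₀ hx₀c hr hrp hrm
    by_cases hsq : ∀ y : G, Reg p y → y ∉ center G → ∃ g : G, cen (g * y * g⁻¹) = cen xq
    · exact false_of_single S T hrq.symm hqp hrp hqm hrm hxqr hxqc Q hxq hQc hQN hsq
    obtain ⟨R⟩ : Nonempty (Sylow r G) := inferInstance
    obtain ⟨xr, hxr, hxrc, hxrr, hRc, hRN⟩ := exists_good S T hrA R
    by_cases hsr : ∀ y : G, Reg p y → y ∉ center G → ∃ g : G, cen (g * y * g⁻¹) = cen xr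
    · exact false_of_single S T hrq hrp hqp hrm hqm hxrr hxrc R hxr hRc hRN hsr
    push Not at hsq hsr
    obtain ⟨y, hy, hyc, hy'⟩ := hsq
    obtain ⟨z, hz, hzc, hz'⟩ := hsr
    obtain ⟨Aq, hAq, -, hAq', hAqc⟩ := exists_rPart S T (r := q) hqp hx₀ hx₀c
    obtain ⟨Ar, hAr, -, hAr', hArc⟩ := exists_rPart S T (r := r) hrp hx₀ hx₀c
    exact lt_asymm
      (card_lt_of_not_single S T hrq.symm hqp hrA hxqr hxqc Q hxq hQN hy hyc hy' hx₀ hx₀c hAq hAq' hAqc
        hAr hAr' hArc)
      (card_lt_of_not_single S T hrq hrp hqA hxrr hxrc R hxr hRN hz hzc hz' hx₀ hx₀c hAr hAr' hArc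
        hAq hAq' hAqc)
  push Not at htwo
  obtain ⟨r, hrA, hrq⟩ := T q
  haveI := Fact.mk hrA.1
  have hrm : ¬ r ∣ m := htwo r hrA.1 hrA.2.1 hrq
  set π := QuotientGroup.mk' (center G)
  set D := cen (π xq)
  have hQD : (Q : Subgroup G).map π ≤ D := by
    rintro _ ⟨g, hg, rfl⟩
    refine mem_cen.2 (commutatorElement_eq_one_iff_mul_comm.1 ?_)
    rw [← map_commutatorElement]
    exact (QuotientGroup.eq_one_iff _).2 (hQc g hg)
  have hCD : (cen xq).map π ≤ D := by
    rintro _ ⟨g, hg, rfl⟩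
    refine mem_cen.2 ?_
    rw [← map_mul, ← map_mul, mem_cen.1 hg]
  have hdm : D.index ∣ m := (index_dvd_of_le hCD).trans
    (S.index xq hxqr hxqc ▸ index_map_dvd _ (QuotientGroup.mk'_surjective _))
  have hdq : ¬ q ∣ D.index := fun h => Q.not_dvd_index
    (h.trans ((index_dvd_of_le hQD).trans (index_map_dvd _ (QuotientGroup.mk'_surjective _))))
  have hclass : D.index = p ^ D.index.primeFactorsList.length :=
    Nat.eq_prime_pow_of_unique_prime_dvd Subgroup.index_ne_zero_of_finite fun {s} hs hsd => by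
      by_contra hsp
      exact hdq ((not_not.1 fun hsq => htwo s hs hsp hsq (hsd.trans hdm)) ▸ hsd)
  have hrad := PrimePowerClass.Basic.mem_solRad S.prime (π xq) hclass
  have hker : Group.IsSolvable π.ker := by
    rw [QuotientGroup.ker_mk']
    exact Group.isSolvable_of_comm fun a b => Subtype.ext (mem_center_iff.1 b.2 a)
  exact false_of_solvable S T hqp hqm hrA hrm (PrimePowerClass.Radical.solRad G) inferInstance
    PrimePowerClass.Radical.solRad_isSolvable
    ⟨xq, PrimePowerClass.Radical.comap_solRad_le π hker hrad, hxqr, hxqc⟩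

end Cfsg.Agent.Lib.TwoPRegular
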