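import Cfsg.Agent.Lib.TwoClassSizes.Tools

/-!
# Groups whose noncentral `p`-regular elements have centralisers of one index

Centralisers of noncentral `p`-regular elements form a "partition" modulo the centre as soon as two
primes different from `p` have noncentral elements.
-/

set_option autoImplicit false
set_option linter.style.haveILetI false

namespace Cfsg.Agent.Lib.TwoPRegular

open Subgroup Cfsg.Agent.Lib.TwoClassSizes
open scoped commutatorElement

variable {G : Type*} [Group G] {p : ℕ}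

/-- `g` is `p`-regular. -/
def Reg (p : ℕ) (g : G) : Prop := (orderOf g).Coprime p

/-- Every noncentral `p`-regular element has centraliser of index `m`. -/
structure Setup (p : ℕ) (G : Type*) [Group G] (m : ℕ) : Prop where
  prime : p.Prime
  index : ∀ x : G, Reg p x → x ∉ center G → (cen x).index = m

/-- The prime `q ≠ p` has a noncentral `q`-element. -/
def Act (p : ℕ) (G : Type*) [Group G] (q : ℕ) : Prop :=
  q.Prime ∧ q ≠ p ∧ ∃ x : G, x ∉ center G ∧ ∃ k, orderOf x = q ^ k

/-- At least two primes act. -/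
def TwoAct (p : ℕ) (G : Type*) [Group G] : Prop := ∀ q : ℕ, ∃ r, Act p G r ∧ r ≠ q

theorem self_mem_cen (x : G) : x ∈ cen x := mem_cen.2 rfl

theorem cen_mul_center {x z : G} (hz : z ∈ center G) : cen (x * z) = cen x := by
  ext g
  rw [mem_cen, mem_cen]
  have h1 : g * z = z * g := mem_center_iff.1 hz g
  constructor
  · intro h
    refine mul_right_cancel (b := z) ?_
    rw [mul_assoc, h, mul_assoc x z g, ← h1, ← mul_assoc]
  · intro h
    rw [← mul_assoc, h, mul_assoc, h1, ← mul_assoc]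

theorem reg_of_primePow {q : ℕ} (hp : p.Prime) (hq : q.Prime) (hqp : q ≠ p) {x : G}
    (hx : ∃ k, orderOf x = q ^ k) : Reg p x := by
  obtain ⟨k, hk⟩ := hx
  rw [Reg, hk]
  exact Nat.Coprime.pow_left k ((Nat.coprime_primes hq hp).2 hqp)

theorem reg_one : Reg p (1 : G) := by rw [Reg, orderOf_one]; exact Nat.coprime_one_left p

theorem reg_inv {x : G} (hx : Reg p x) : Reg p x⁻¹ := by rwa [Reg, orderOf_inv]

theorem reg_mul {x y : G} (h : Commute x y) (hx : Reg p x) (hy : Reg p y) : Reg p (x * y) :=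
  Nat.Coprime.of_dvd_left (h.orderOf_mul_dvd_mul_orderOf) (Nat.Coprime.mul_left hx hy)

theorem reg_conj {x : G} (hx : Reg p x) (g : G) : Reg p (g * x * g⁻¹) := by
  have h := orderOf_injective (MulAut.conj g).toMonoidHom (MulAut.conj g).injective x
  rw [Reg, show g * x * g⁻¹ = (MulAut.conj g).toMonoidHom x from rfl, h]
  exact hx

theorem orderOf_conj' (g x : G) : orderOf (g * x * g⁻¹) = orderOf x :=
  orderOf_injective (MulAut.conj g).toMonoidHom (MulAut.conj g).injective x

theorem cen_conj (g x : G) : cen (g * x * g⁻¹) = (cen x).map (MulAut.conj g).toMonoidHom := by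
  ext c
  rw [mem_cen_conj]
  constructor
  · exact fun hc => ⟨g⁻¹ * c * g, hc, show g * (g⁻¹ * c * g) * g⁻¹ = c by group⟩
  · rintro ⟨d, hd, rfl⟩
    show g⁻¹ * (g * d * g⁻¹) * g ∈ cen x
    rwa [show g⁻¹ * (g * d * g⁻¹) * g = d by group]

/-- An element moving `a` by a central element, of order prime to that of `a`, fixes `a`. -/
theorem commute_of_comm_central {g a : G} (h : ⁅g, a⁆ ∈ center G)
    (hcop : (orderOf g).Coprime (orderOf a)) : Commute g a := by
  rw [commute_iff_eq, ← commutatorElement_eq_one_iff_mul_comm]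
  set t := ⁅g, a⁆ with ht
  have htc : ∀ y : G, Commute t y := fun y => (mem_center_iff.1 h y).symm
  have h1 : g * a * g⁻¹ = t * a := by rw [ht, commutatorElement_def]; group
  have h2 : t ^ orderOf a = 1 := by
    have h3 : (g * a * g⁻¹) ^ orderOf a = 1 := by rw [conj_pow, pow_orderOf_eq_one]; group
    rw [h1, (htc a).mul_pow, pow_orderOf_eq_one, mul_one] at h3
    exact h3
  have h4 : a * g⁻¹ * a⁻¹ = g⁻¹ * t := by rw [ht, commutatorElement_def]; group
  have h5 : t ^ orderOf g = 1 := by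
    have h6 : (a * g⁻¹ * a⁻¹) ^ orderOf g = 1 := by
      rw [conj_pow, inv_pow, pow_orderOf_eq_one]; group
    rw [h4, ((htc g⁻¹).symm).mul_pow, inv_pow, pow_orderOf_eq_one, inv_one, one_mul] at h6
    exact h6
  exact orderOf_eq_one_iff.1 (Nat.eq_one_of_dvd_coprimes hcop (orderOf_dvd_of_pow_eq_one h5)
    (orderOf_dvd_of_pow_eq_one h2))

variable [Finite G] {m : ℕ} (S : Setup p G m)
include S

theorem card_cen_eq {x y : G} (hx : Reg p x) (hxc : x ∉ center G) (hy : Reg p y)
    (hyc : y ∉ center G) : Nat.card (cen x) = Nat.card (cen y) := by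
  have h1 := card_mul_index (cen x)
  rw [← card_mul_index (cen y), S.index x hx hxc, S.index y hy hyc] at h1
  exact Nat.eq_of_mul_eq_mul_right
    (S.index x hx hxc ▸ Nat.pos_of_ne_zero Subgroup.index_ne_zero_of_finite) h1

theorem cen_eq_of_le {x y : G} (hx : Reg p x) (hxc : x ∉ center G) (hy : Reg p y)
    (hyc : y ∉ center G) (h : cen x ≤ cen y) : cen x = cen y :=
  eq_of_le_of_card_ge h (card_cen_eq S hx hxc hy hyc).ge

/-- In the centraliser of a `q`-element the `r`-elements are central, `r ∉ {p, q}`. -/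
theorem le_cen_of_ne_prime {q r : ℕ} (hq : q.Prime) (hqp : q ≠ p) (hr : r.Prime) (hrp : r ≠ p)
    (hqr : q ≠ r) {x y : G} (hx : ∃ k, orderOf x = q ^ k) (hxc : x ∉ center G)
    (hy : ∃ k, orderOf y = r ^ k) (hyx : y ∈ cen x) : cen x ≤ cen y := by
  have hc : Commute x y := (mem_cen'.1 hyx).symm
  have hcop : (orderOf x).Coprime (orderOf y) := by
    obtain ⟨i, hi⟩ := hx
    obtain ⟨j, hj⟩ := hy
    rw [hi, hj]; exact coprime_of_prime_pow hq hr hqr
  have hle := cen_mul_le hc hcop
  have hreg := reg_mul hc (reg_of_primePow S.prime hq hqp hx) (reg_of_primePow S.prime hr hrp hy)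
  have hnc : x * y ∉ center G := fun h =>
    hxc (mem_center_iff.2 fun g =>
      mem_cen.1 ((hle (mem_cen.2 (mem_center_iff.1 h g))).1))
  rw [← cen_eq_of_le S hreg hnc (reg_of_primePow S.prime hq hqp hx) hxc (hle.trans inf_le_left)]
  exact hle.trans inf_le_right

/-- A centraliser contains noncentral elements for every other acting prime. -/
theorem exists_other {q r : ℕ} (hr : Act p G r) (_hqr : q ≠ r) {x : G}
    (hq : q.Prime) (hqp : q ≠ p) (hx : ∃ k, orderOf x = q ^ k) (hxc : x ∉ center G) :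
    ∃ y ∈ cen x, y ∉ center G ∧ ∃ k, orderOf y = r ^ k := by
  obtain ⟨hr', hrp, z, hzc, hz⟩ := hr
  haveI := Fact.mk hr'
  by_contra hcon
  push Not at hcon
  obtain ⟨R, -, hR⟩ := exists_sylow_inf (p := r) (cen x) (P := ⊥) IsPGroup.of_bot bot_le
  have hle : ((R : Subgroup G) ⊓ cen x : Subgroup G) ≤ center G := fun w hw => by
    by_contra hwc
    obtain ⟨k, hk⟩ := exists_orderOf_eq_pow R.2 hw.1
    exact hcon w hw.2 hwc k hk
  have hp2 : IsPGroup r (zpowers z ⊔ ((R : Subgroup G) ⊓ cen x) : Subgroup G) :=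
    (isPGroup_zpowers' hz).to_sup_of_normal_right' (R.2.to_le inf_le_left) fun g _ => by
      refine mem_normalizer_iff.2 fun w => ⟨fun hw => ?_, fun hw => ?_⟩
      · rwa [mem_center_iff.1 (hle hw) g, mul_inv_cancel_right]
      · have h1 := mem_center_iff.1 (hle hw) g
        have h2 : g * w * g⁻¹ = w := by
          calc g * w * g⁻¹ = g⁻¹ * (g * (g * w * g⁻¹)) := by group
            _ = g⁻¹ * (g * w * g⁻¹ * g) := by rw [h1]
            _ = w := by group
        rwa [h2] at hw
  have hle2 : (zpowers z ⊔ ((R : Subgroup G) ⊓ cen x) : Subgroup G) ≤ cen z :=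
    sup_le (zpowers_le.2 (self_mem_cen z)) fun w hw => mem_cen.2 ((mem_center_iff.1 (hle hw) z).symm)
  have h1 := card_le_ordProj hp2 hle2
  rw [← card_cen_eq S (reg_of_primePow S.prime hq hqp hx) hxc (reg_of_primePow S.prime hr' hrp hz) hzc,
    ← hR] at h1
  have h2 : ((R : Subgroup G) ⊓ cen x : Subgroup G) = zpowers z ⊔ ((R : Subgroup G) ⊓ cen x) :=
    eq_of_le_of_card_ge le_sup_right h1
  exact hzc (hle (h2 ▸ mem_sup_left (mem_zpowers z)))

/-- `p`-regular elements of a centraliser are central in it. -/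
theorem cen_le_cen (T : TwoAct p G) {x y : G} (hx : Reg p x) (hxc : x ∉ center G) (hy : Reg p y)
    (hyx : y ∈ cen x) : cen x ≤ cen y := by
  -- reduce to a primary element
  obtain ⟨q, hq, a, hax, ha, hac⟩ := exists_primary_notMem hxc
  have hqp : q ≠ p := by
    rintro rfl
    obtain ⟨k, hk⟩ := ha
    obtain ⟨j, rfl⟩ := mem_zpowers_iff.1 hax
    have hd : orderOf (x ^ j) ∣ orderOf x := by
      rw [← Nat.card_zpowers x]
      exact Subgroup.orderOf_dvd_natCard _ hax
    refine hac ?_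
    rw [orderOf_eq_one_iff.1 (Nat.eq_one_of_dvd_coprimes ((hx.pow_right k)) hd (hk ▸ dvd_rfl))]
    exact one_mem _
  have hareg := reg_of_primePow S.prime hq hqp ha
  have hxa : cen x = cen a := cen_eq_of_le S hx hxc hareg hac (cen_le_cen_of_mem_zpowers hax)
  rw [hxa] at hyx ⊢
  -- the primary parts of `y` are central in the centraliser
  intro c hc
  refine mem_cen.2 ?_
  have hyK : y ∈ cen c := by
    refine mem_of_primary_parts fun s hs b hb hbo => ?_
    have hbx : b ∈ cen a := by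
      obtain ⟨j, rfl⟩ := mem_zpowers_iff.1 hb
      exact zpow_mem hyx j
    by_cases hsp : s = p
    · subst hsp
      obtain ⟨k, hk⟩ := hbo
      obtain ⟨j, rfl⟩ := mem_zpowers_iff.1 hb
      have hd : orderOf (y ^ j) ∣ orderOf y := by
        rw [← Nat.card_zpowers y]
        exact Subgroup.orderOf_dvd_natCard _ hb
      rw [orderOf_eq_one_iff.1 (Nat.eq_one_of_dvd_coprimes ((hy.pow_right k)) hd (hk ▸ dvd_rfl))]
      exact one_mem _
    by_cases hsq : s = q
    · subst hsq
      obtain ⟨r, hr, hrs⟩ := T s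
      obtain ⟨w, hwa, hwc, hwo⟩ := exists_other S hr hrs.symm hs hsp ha hac
      have hle := le_cen_of_ne_prime S hs hsp hr.1 hr.2.1 hrs.symm ha hac hwo hwa
      have hcw := cen_eq_of_le S hareg hac (reg_of_primePow S.prime hr.1 hr.2.1 hwo) hwc hle
      have h2 := le_cen_of_ne_prime S hr.1 hr.2.1 hs hsp hrs hwo hwc hbo (hcw ▸ hbx)
      exact mem_cen.2 (mem_cen.1 (h2 (hcw ▸ hc))).symm
    · have h2 := le_cen_of_ne_prime S hq hqp hs hsp (Ne.symm hsq) ha hac hbo hbx
      exact mem_cen.2 (mem_cen.1 (h2 hc)).symm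
  exact (mem_cen.1 hyK).symm

theorem cen_eq (T : TwoAct p G) {x y : G} (hx : Reg p x) (hxc : x ∉ center G) (hy : Reg p y)
    (hyc : y ∉ center G) (hyx : y ∈ cen x) : cen x = cen y :=
  cen_eq_of_le S hx hxc hy hyc (cen_le_cen S T hx hxc hy hyx)

theorem comm_reg (T : TwoAct p G) {x a b : G} (hx : Reg p x) (hxc : x ∉ center G) (ha : Reg p a)
    (hax : a ∈ cen x) (hbx : b ∈ cen x) : Commute a b :=
  (mem_cen'.1 (cen_le_cen S T hx hxc ha hax hbx)).symm

/-- An element outside `cen x` fixes no noncentral `p`-regular element of it. -/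
theorem mem_center_of_fix (T : TwoAct p G) {x a g : G} (hx : Reg p x) (hxc : x ∉ center G)
    (ha : Reg p a) (hax : a ∈ cen x) (hg : g ∉ cen x) (hga : Commute g a) : a ∈ center G := by
  by_contra hac
  exact hg ((cen_eq S T hx hxc ha hac hax).symm ▸ mem_cen'.2 hga)

/-- Conjugating a noncentral regular element of `cen x` back into it normalises it. -/
theorem mem_normalizer (T : TwoAct p G) {x a g : G} (hx : Reg p x) (hxc : x ∉ center G)
    (ha : Reg p a) (hac : a ∉ center G) (hax : a ∈ cen x) (hga : g * a * g⁻¹ ∈ cen x) :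
    g ∈ normalizer (cen x : Set G) := by
  have h1 := cen_eq S T hx hxc ha hac hax
  have h2 : cen x = cen (g * a * g⁻¹) :=
    cen_eq S T hx hxc (reg_conj ha g) (fun h => hac (mem_center_of_conj h)) hga
  rw [mem_normalizer_iff]
  intro c
  conv_lhs => rw [h1]
  conv_rhs => rw [h2]
  exact conj_mem_cen_iff.symm

/-- The `p`-regular part of a centraliser, as a subgroup. -/
def regPart (T : TwoAct p G) {x : G} (hx : Reg p x) (hxc : x ∉ center G) : Subgroup G where
  carrier := {a | Reg p a ∧ a ∈ cen x}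
  one_mem' := ⟨reg_one, one_mem _⟩
  mul_mem' := fun ha hb => ⟨reg_mul (comm_reg S T hx hxc ha.1 ha.2 hb.2) ha.1 hb.1, mul_mem ha.2 hb.2⟩
  inv_mem' := fun ha => ⟨reg_inv ha.1, inv_mem ha.2⟩

theorem regPart_comm (T : TwoAct p G) {x : G} (hx : Reg p x) (hxc : x ∉ center G) :
    IsMulCommutative (regPart S T hx hxc) :=
  ⟨⟨fun a b => Subtype.ext (comm_reg S T hx hxc a.2.1 a.2.2 b.2.2).eq⟩⟩

omit S in
theorem le_center_of_not_act {q : ℕ} [hq : Fact q.Prime] (hqp : q ≠ p) (h : ¬ Act p G q)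
    {Q : Subgroup G} (hQ : IsPGroup q Q) : Q ≤ center G := fun x hx => by
  by_contra hxc
  exact h ⟨hq.out, hqp, x, hxc, exists_orderOf_eq_pow hQ hx⟩

theorem act_of_dvd {x : G} (hx : Reg p x) (hxc : x ∉ center G) {q : ℕ} (hq : q.Prime)
    (hqp : q ≠ p) (hqm : q ∣ m) : Act p G q := by
  haveI := Fact.mk hq
  by_contra h
  obtain ⟨Q⟩ : Nonempty (Sylow q G) := inferInstance
  have hle : (Q : Subgroup G) ≤ cen x := fun g hg =>
    mem_cen.2 (mem_center_iff.1 (le_center_of_not_act hqp h Q.2 hg) x).symm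
  exact Q.not_dvd_index (hqm.trans (S.index x hx hxc ▸ index_dvd_of_le hle))

/-- If `q` does not divide `m`, a centraliser contains a Sylow `q`-subgroup. -/
theorem exists_sylow_le {q : ℕ} [Fact q.Prime] (hqm : ¬ q ∣ m) {x : G} (hx : Reg p x)
    (hxc : x ∉ center G) : ∃ R : Sylow q G, (R : Subgroup G) ≤ cen x := by
  obtain ⟨R, -, hR⟩ := exists_sylow_inf (p := q) (cen x) (P := ⊥) IsPGroup.of_bot bot_le
  refine ⟨R, inf_eq_left.1 (eq_of_le_of_card_ge inf_le_left ?_)⟩
  rw [hR, R.card_eq_multiplicity, ← card_mul_index (cen x), S.index x hx hxc,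
    Nat.factorization_mul Nat.card_pos.ne'
      (S.index x hx hxc ▸ Subgroup.index_ne_zero_of_finite), Finsupp.add_apply,
    Nat.factorization_eq_zero_of_not_dvd hqm, add_zero]

/-- A Sylow subgroup of an acting prime normalises the centraliser of one of its elements. -/
theorem exists_good (T : TwoAct p G) {q : ℕ} [hq : Fact q.Prime] (hA : Act p G q) (Q : Sylow q G) :
    ∃ x ∈ (Q : Subgroup G), x ∉ center G ∧ Reg p x ∧ (∀ s ∈ (Q : Subgroup G), ⁅s, x⁆ ∈ center G) ∧
      (Q : Subgroup G) ≤ normalizer (cen x : Set G) := by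
  have hne : ¬ (Q : Subgroup G) ≤ center G := by
    intro hle
    obtain ⟨-, -, z, hzc, hz⟩ := hA
    obtain ⟨R, hR⟩ := (isPGroup_zpowers' hz).exists_le_sylow
    obtain ⟨g, rfl⟩ := MulAction.exists_smul_eq G Q R
    obtain ⟨w, hw, hwz⟩ := hR (mem_zpowers z)
    exact hzc (hwz ▸ conj_mem_center (hle hw))
  obtain ⟨x, hxQ, hxc, -, hx⟩ := exists_nearly_central (p := q) Q.2 le_rfl
    (fun s hs y hy => mul_mem (mul_mem hs hy) (inv_mem hs)) hne
  have hreg := reg_of_primePow S.prime hA.1 hA.2.1 (exists_orderOf_eq_pow Q.2 hxQ)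
  refine ⟨x, hxQ, hxc, hreg, hx, fun s hs => mem_normalizer S T hreg hxc hreg hxc (self_mem_cen x) ?_⟩
  rw [show s * x * s⁻¹ = ⁅s, x⁆ * x by rw [commutatorElement_def]; group]
  exact mul_mem (mem_cen.2 ((mem_center_iff.1 (hx s hs) x).symm)) (self_mem_cen x)

end Cfsg.Agent.Lib.TwoPRegular
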