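import Mathlib

/-!
A finite group all whose nontrivial elements have prime order, acting on an abelian group `A` so
that nontrivial elements fix only elements of `Z`: then `a ^ (k - 1) ∈ Z`, `k` the number of
subgroups of prime order.
-/

set_option autoImplicit false
set_option linter.style.haveILetI false

namespace Cfsg.Agent.Lib.TwoPRegular

open Subgroup

/-- Nontrivial elements fix only elements of `Z`: norms land in `Z`. -/
theorem norm_mem {U A : Type*} [Group U] [CommGroup A] [Fintype U] (φ : U →* MulAut A)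
    (Z : Subgroup A) (hfix : ∀ u : U, u ≠ 1 → ∀ a : A, φ u a = a → a ∈ Z) (K : Subgroup U)
    [Fintype K] (hK : K ≠ ⊥) (a : A) : ∏ h : K, φ (h : U) a ∈ Z := by
  obtain ⟨g, hg, hg1⟩ : ∃ g ∈ K, g ≠ 1 := by
    by_contra h
    push Not at h
    exact hK ((eq_bot_iff_forall K).2 h)
  refine hfix g hg1 _ ?_
  rw [map_prod]
  refine Fintype.prod_equiv (Equiv.mulLeft (⟨g, hg⟩ : K)) _ _ fun h => ?_
  show φ g (φ (h : U) a) = φ (g * h) a
  rw [map_mul, MulAut.mul_apply]

/-- The nontrivial elements are partitioned by the subgroups of prime order. -/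
theorem exists_primeSubgroup_equiv {U : Type*} [Group U] [Finite U]
    (hprime : ∀ u : U, u ≠ 1 → (orderOf u).Prime) :
    ∃ e : (Σ K : {K : Subgroup U // (Nat.card K).Prime}, {h : (K : Subgroup U) // h ≠ 1}) ≃
      {u : U // u ≠ 1}, ∀ t, ((e t : U)) = ((t.2.1 : U)) :=
  ⟨Equiv.ofBijective (fun t => ⟨(t.2.1 : U), fun h => t.2.2 (Subtype.ext h)⟩) (by
      refine ⟨?_, fun u => ?_⟩
      · rintro ⟨K, h, hh⟩ ⟨K', h', hh'⟩ he
        have he' : (h : U) = h' := congrArg Subtype.val he
        have key : ∀ (L : {K : Subgroup U // (Nat.card K).Prime}) (w : (L : Subgroup U)), w ≠ 1 → (L : Subgroup U) = zpowers (w : U) := by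
          intro L w hw
          haveI := Fact.mk L.2
          refine (eq_of_le_of_card_ge (zpowers_le.2 w.2) ?_).symm
          have h1 : Nat.card (zpowers (w : U)) ∣ Nat.card (L : Subgroup U) :=
            card_dvd_of_le (zpowers_le.2 w.2)
          rcases (Nat.dvd_prime L.2).1 h1 with h1 | h1
          · exact absurd (zpowers_eq_bot.1 (card_eq_one.1 h1)) fun h => hw (Subtype.ext h)
          · exact h1.ge
        have hKK : K = K' := Subtype.ext (by rw [key K h hh, key K' h' hh', he'])
        subst hKK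
        obtain rfl : h = h' := Subtype.ext he'
        rfl
      · refine ⟨⟨⟨zpowers (u : U), by rw [Nat.card_zpowers]; exact hprime u u.2⟩,
          ⟨⟨(u : U), mem_zpowers (u : U)⟩, fun h => u.2 (congrArg Subtype.val h)⟩⟩, rfl⟩), fun _ => rfl⟩

/-- Counting the nontrivial elements by the subgroups of prime order. -/
theorem sum_card_sub_one {U : Type*} [Group U] [Finite U] [Fintype {K : Subgroup U // (Nat.card K).Prime}]
    (hprime : ∀ u : U, u ≠ 1 → (orderOf u).Prime) :
    ∑ K : {K : Subgroup U // (Nat.card K).Prime}, (Nat.card (K : Subgroup U) - 1) = Nat.card U - 1 := by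
  classical
  haveI := Fintype.ofFinite U
  obtain ⟨e, -⟩ := exists_primeSubgroup_equiv hprime
  have h : ∀ (T : Type _) [Group T] [Finite T], Nat.card {t : T // t ≠ 1} = Nat.card T - 1 := fun T _ _ => by
    haveI := Fintype.ofFinite T
    rw [Nat.card_eq_fintype_card, Nat.card_eq_fintype_card, Fintype.card_subtype_compl,
      Fintype.card_subtype_eq]
  rw [← h U, ← Nat.card_congr e, Nat.card_sigma]
  exact Finset.sum_congr rfl fun K _ => (h _).symm

theorem pow_pred_card_mem {U A : Type*} [Group U] [CommGroup A] [Fintype U] [Nontrivial U]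
    (φ : U →* MulAut A) (Z : Subgroup A)
    (hprime : ∀ u : U, u ≠ 1 → (orderOf u).Prime)
    (hfix : ∀ u : U, u ≠ 1 → ∀ a : A, φ u a = a → a ∈ Z) (a : A) :
    a ^ (Nat.card {K : Subgroup U // (Nat.card K).Prime} - 1) ∈ Z := by
  classical
  set ι := {K : Subgroup U // (Nat.card K).Prime}
  haveI : Finite (Subgroup U) := Finite.of_injective _ SetLike.coe_injective
  haveI := Fintype.ofFinite ι
  have hne : ∀ K : ι, (K : Subgroup U) ≠ ⊥ := fun K h => by
    have := K.2
    rw [h, card_bot] at this
    exact Nat.not_prime_one this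
  obtain ⟨e, he⟩ := exists_primeSubgroup_equiv hprime
  let f : U → A := fun u => φ u a
  have hP : ∏ u : U, f u ∈ Z := by
    have h := norm_mem φ Z hfix ⊤ top_ne_bot a
    rwa [Fintype.prod_equiv (Subgroup.topEquiv (G := U)).toEquiv (fun h => φ (h : U) a) f fun _ => rfl] at h
  have hsplit : ∀ (T : Type _) [Fintype T] [One T] [DecidableEq T] (g : T → A),
      ∏ t, g t = g 1 * ∏ t : {t : T // t ≠ 1}, g t := fun T _ _ _ g => by
    rw [← Finset.mul_prod_erase Finset.univ g (Finset.mem_univ 1)]
    congr 1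
    refine (Finset.prod_subtype _ (fun t => ?_) g)
    simp
  have h1 : ∏ K : ι, ∏ h : (K : Subgroup U), f h =
      a ^ Fintype.card ι * ∏ u : {u : U // u ≠ 1}, f u := by
    calc ∏ K : ι, ∏ h : (K : Subgroup U), f h
        = ∏ K : ι, (a * ∏ h : {h : (K : Subgroup U) // h ≠ 1}, f (h : (K : Subgroup U))) :=
          Finset.prod_congr rfl fun K _ => by
            rw [hsplit _ (fun h : (K : Subgroup U) => f h)]
            simp [f]
      _ = a ^ Fintype.card ι * ∏ u : {u : U // u ≠ 1}, f u := by
            rw [Finset.prod_mul_distrib, Finset.prod_const, Finset.card_univ, ← Fintype.prod_sigma']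
            congr 1
            exact Fintype.prod_equiv e _ _ fun t => by rw [he]
  have h2 : ∏ u : U, f u = a * ∏ u : {u : U // u ≠ 1}, f u := by
    rw [hsplit U f]; simp [f]
  have hZ : ∏ K : ι, ∏ h : (K : Subgroup U), f h ∈ Z :=
    Z.prod_mem fun K _ => norm_mem φ Z hfix K (hne K) a
  obtain ⟨u₀, hu₀⟩ := exists_ne (1 : U)
  haveI : Nonempty ι := ⟨⟨zpowers u₀, by rw [Nat.card_zpowers]; exact hprime u₀ hu₀⟩⟩
  have h3 : a ^ (Nat.card ι - 1) = (∏ K : ι, ∏ h : (K : Subgroup U), f h) / ∏ u : U, f u := by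
    rw [h1, h2, mul_div_mul_right_eq_div, Nat.card_eq_fintype_card, eq_div_iff_mul_eq',
      ← pow_succ, Nat.sub_add_cancel Fintype.card_pos]
  rw [h3]
  exact Z.div_mem hZ hP

end Cfsg.Agent.Lib.TwoPRegular
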