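import Cfsg.Agent.Lib.TwoPRegular.Basic
import Cfsg.Agent.Lib.TwoPRegular.Partition
import Cfsg.Agent.Lib.PGroups.UniqueInvolution
import Cfsg.Agent.Lib.Coprime.Conjugacy
import Cfsg.Agent.Lib.Hall.Basic

/-!
The normaliser of a centraliser modulo the centraliser cannot involve two of the primes dividing
the index.
-/

set_option autoImplicit false
set_option linter.style.haveILetI false

namespace Cfsg.Agent.Lib.TwoPRegular

open Subgroup Cfsg.Agent.Lib.TwoClassSizes
open scoped commutatorElement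

variable {G : Type*} [Group G] [Finite G] {p m : ℕ} (S : Setup p G m) (T : TwoAct p G)
  {x : G} (hx : Reg p x) (hxc : x ∉ center G)

/-- The normaliser of the centraliser. -/
abbrev nrm (x : G) : Subgroup G := normalizer (cen x : Set G)

/-- The normaliser modulo the centraliser. -/
abbrev quo (x : G) : Type _ := nrm x ⧸ (cen x).subgroupOf (nrm x)

theorem conj_mem_regPart (g : nrm x) {a : G} (ha : a ∈ regPart S T hx hxc) :
    (g : G) * a * (g : G)⁻¹ ∈ regPart S T hx hxc :=
  ⟨reg_conj ha.1 g, (mem_normalizer_iff.1 g.2 a).1 ha.2⟩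

/-- Conjugation on the regular part. -/
def conjHom : nrm x →* MulAut (regPart S T hx hxc) where
  toFun g :=
    { toFun := fun a => ⟨(g : G) * a * (g : G)⁻¹, conj_mem_regPart S T hx hxc g a.2⟩
      invFun := fun a => ⟨((g⁻¹ : nrm x) : G) * a * ((g⁻¹ : nrm x) : G)⁻¹, conj_mem_regPart S T hx hxc g⁻¹ a.2⟩
      left_inv := fun a => Subtype.ext (by simp [mul_assoc])
      right_inv := fun a => Subtype.ext (by simp [mul_assoc])
      map_mul' := fun a b => Subtype.ext (by simp [mul_assoc]) }
  map_one' := MulEquiv.ext fun a => Subtype.ext (by simp)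
  map_mul' g h := MulEquiv.ext fun a => Subtype.ext (by simp [mul_assoc])

theorem le_ker_conjHom : (cen x).subgroupOf (nrm x) ≤ (conjHom S T hx hxc).ker := fun g hg =>
  MulEquiv.ext fun a => Subtype.ext (by
    show (g : G) * a * (g : G)⁻¹ = a
    exact mul_inv_eq_iff_eq_mul.2 (comm_reg S T hx hxc a.2.1 a.2.2 hg).symm.eq)

/-- The action of the quotient on the regular part. -/
def quoHom : quo x →* MulAut (regPart S T hx hxc) :=
  QuotientGroup.lift _ (conjHom S T hx hxc) (le_ker_conjHom S T hx hxc)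

theorem fix_mem_center (w : quo x) (hw : w ≠ 1) (a : regPart S T hx hxc)
    (ha : quoHom S T hx hxc w a = a) : (a : G) ∈ center G := by
  obtain ⟨g, rfl⟩ := QuotientGroup.mk_surjective w
  refine mem_center_of_fix S T hx hxc a.2.1 a.2.2 (fun h => hw ((QuotientGroup.eq_one_iff g).2 h)) ?_
  exact mul_inv_eq_iff_eq_mul.1 (congrArg Subtype.val ha)

include S T hx hxc in
/-- A subgroup all whose nontrivial elements have prime order, with `b + 1` subgroups of prime
order, is impossible for a prime `b`. -/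
theorem false_of_partition (U : Subgroup (quo x)) [Nontrivial U]
    (hprime : ∀ u : U, u ≠ 1 → (orderOf u).Prime) {b : ℕ} (hb : b.Prime)
    (hk : Nat.card {K : Subgroup U // (Nat.card K).Prime} = b + 1) : False := by
  letI : CommGroup (regPart S T hx hxc) := { (inferInstance : Group (regPart S T hx hxc)) with
    mul_comm := fun a c => (regPart_comm S T hx hxc).is_comm.comm a c }
  haveI := Fintype.ofFinite U
  obtain ⟨s, hs, hsb⟩ := T b
  obtain ⟨s', hs', hs's⟩ := T s
  obtain ⟨q, hq, y, hyx, ⟨hyo, hyc⟩⟩ := exists_primary_notMem (K := center G) hxc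
  have key : ∃ a : regPart S T hx hxc, (a : G) ∉ center G ∧ ∃ k, orderOf (a : G) = s ^ k := by
    by_cases hqs : q = s
    · subst hqs
      refine ⟨⟨y, reg_of_primePow S.prime hs.1 hs.2.1 hyo, ?_⟩, hyc, hyo⟩
      obtain ⟨j, rfl⟩ := mem_zpowers_iff.1 hyx
      exact zpow_mem (self_mem_cen x) j
    have hqp : q ≠ p := by
      rintro rfl
      obtain ⟨k, hk⟩ := hyo
      have hd : orderOf y ∣ orderOf x := by
        rw [← Nat.card_zpowers x]
        exact Subgroup.orderOf_dvd_natCard _ hyx
      refine hyc ?_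
      rw [orderOf_eq_one_iff.1 (Nat.eq_one_of_dvd_coprimes (hx.pow_right k) hd (hk ▸ dvd_rfl))]
      exact one_mem _
    obtain ⟨z, hz, hzc, hzo⟩ := exists_other S hs hqs hq hqp hyo hyc
    have hxy := cen_eq_of_le S hx hxc (reg_of_primePow S.prime hq hqp hyo) hyc (cen_le_cen_of_mem_zpowers hyx)
    exact ⟨⟨z, reg_of_primePow S.prime hs.1 hs.2.1 hzo, hxy ▸ hz⟩, hzc, hzo⟩
  obtain ⟨a, hac, k, hak⟩ := key
  have h := pow_pred_card_mem ((quoHom S T hx hxc).comp U.subtype)
    ((center G).subgroupOf (regPart S T hx hxc)) hprime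
    (fun u hu c hc => fix_mem_center S T hx hxc (u : quo x) (fun h => hu (Subtype.ext h)) c hc) a
  rw [hk, Nat.add_sub_cancel, mem_subgroupOf, Subgroup.coe_pow] at h
  obtain ⟨i, hi⟩ := exists_pow_eq_self_of_coprime (show b.Coprime (orderOf (a : G)) by
    rw [hak]; exact Nat.Coprime.pow_right k ((Nat.coprime_primes hb hs.1).2 (Ne.symm hsb)))
  exact hac (hi ▸ pow_mem h i)

/-- A good prime: every element of `nrm x` of that prime power order moves some noncentral element
of the same prime power order of `cen x` by a central element. -/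
def Good (x : G) (r : ℕ) : Prop :=
  ∀ g ∈ nrm x, (∃ k, orderOf g = r ^ k) → ∃ a ∈ cen x, a ∉ center G ∧ (∃ k, orderOf a = r ^ k) ∧
    ⁅g, a⁆ ∈ center G

include S T hx hxc in
/-- No element has order `r · l`, `r` a good prime. -/
theorem false_of_commute {r l : ℕ} (hr : r.Prime) (hl : l.Prime) (hrl : r ≠ l) (hrp : r ≠ p)
    (hgood : Good x r) {u v : quo x} (hu : orderOf u = r) (hv : orderOf v = l) (huv : Commute u v) :
    False := by
  obtain ⟨U, V, hU, hV, hUV⟩ : ∃ U V : nrm x, ((∃ k, orderOf U = r ^ k) ∧ orderOf (U : quo x) = r) ∧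
      ((∃ k, orderOf V = l ^ k) ∧ orderOf (V : quo x) = l) ∧ Commute (U : quo x) (V : quo x) := by
    obtain ⟨w, hw⟩ := QuotientGroup.mk_surjective (u * v)
    obtain ⟨a, b, hab, hcab, ha, hb, haz, hbz⟩ := Brauer.Induction.exists_pParts r hr w
    obtain ⟨c, d, hcd, hccd, hc, hd, hcz, hdz⟩ := Brauer.Induction.exists_pParts l hl w
    have hwo : orderOf (w : quo x) = r * l := by
      rw [hw, huv.orderOf_mul_eq_mul_orderOf_of_coprime (by rw [hu, hv]; exact (Nat.coprime_primes hr hl).2 hrl),
        hu, hv]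
    have key : ∀ {r l : ℕ}, r.Prime → l.Prime → r ≠ l → orderOf (w : quo x) = r * l → ∀ a b : nrm x,
        a * b = w → (∃ k, orderOf a = r ^ k) → ¬ r ∣ orderOf b → a ∈ zpowers w → b ∈ zpowers w →
          orderOf (a : quo x) = r := by
      intro r l hr hl hrl hwo a b hab ⟨k, hk⟩ hb haz hbz
      have h1 : orderOf (a : quo x) ∣ r ^ k := hk ▸ orderOf_map_dvd (QuotientGroup.mk' _) a
      have h2 : orderOf (a : quo x) ∣ r * l := by
        obtain ⟨i, rfl⟩ := mem_zpowers_iff.1 haz
        refine orderOf_dvd_of_pow_eq_one ?_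
        rw [QuotientGroup.mk_zpow, ← zpow_natCast, ← zpow_mul, mul_comm, zpow_mul, zpow_natCast, ← hwo,
          pow_orderOf_eq_one, one_zpow]
      have h3 : orderOf (a : quo x) ∣ r :=
        (Nat.Coprime.dvd_mul_right (Nat.Coprime.of_dvd_left h1
          (Nat.Coprime.pow_left k ((Nat.coprime_primes hr hl).2 hrl)))).1 h2
      rcases (Nat.dvd_prime hr).1 h3 with h4 | h4
      · exfalso
        rw [← hab, QuotientGroup.mk_mul, orderOf_eq_one_iff.1 h4, one_mul] at hwo
        exact hb ((dvd_mul_right r l).trans (hwo ▸ orderOf_map_dvd (QuotientGroup.mk' _) b))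
      · exact h4
    refine ⟨a, c, ⟨ha, key hr hl hrl hwo a b hab ha hb haz hbz⟩,
      ⟨hc, key hl hr hrl.symm (by rw [hwo, mul_comm]) c d hcd hc hd hcz hdz⟩, ?_⟩
    obtain ⟨i, rfl⟩ := mem_zpowers_iff.1 haz
    obtain ⟨j, rfl⟩ := mem_zpowers_iff.1 hcz
    rw [QuotientGroup.mk_zpow, QuotientGroup.mk_zpow]
    exact (Commute.refl _).zpow_zpow i j
  obtain ⟨⟨i', hUi⟩, hUo⟩ := hU
  obtain ⟨⟨k', hVk⟩, hVo⟩ := hV
  have hUn : (U : G) ∉ cen x := fun h => by
    rw [(QuotientGroup.eq_one_iff U).2 h, orderOf_one] at hUo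
    exact hr.one_lt.ne hUo
  have hVn : (V : G) ∉ cen x := fun h => by
    rw [(QuotientGroup.eq_one_iff V).2 h, orderOf_one] at hVo
    exact hl.one_lt.ne hVo
  obtain ⟨a, hax, hac, ⟨e, hae⟩, hUa⟩ := hgood U U.2 ⟨i', by rw [← hUi, Subgroup.orderOf_coe]⟩
  have hareg := reg_of_primePow S.prime hr hrp ⟨e, hae⟩
  have hcomm : ⁅(U : G), (V : G)⁆ ∈ cen x := by
    have h1 : ((⁅U, V⁆ : nrm x) : quo x) = 1 := by
      show QuotientGroup.mk' _ ⁅U, V⁆ = 1
      rw [map_commutatorElement, commutatorElement_eq_one_iff_mul_comm]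
      exact hUV
    have h2 : ((⁅U, V⁆ : nrm x) : G) ∈ cen x := (QuotientGroup.eq_one_iff (⁅U, V⁆ : nrm x)).1 h1
    simpa [commutatorElement_def] using h2
  set t := ⁅(U : G), a⁆ with ht
  set a' := (V : G) * a * (V : G)⁻¹ with ha'
  have ha'x : a' ∈ cen x := (mem_normalizer_iff.1 V.2 a).1 hax
  set c := ⁅(U : G), (V : G)⁆ with hc
  have hca : Commute c a' :=
    (comm_reg S T hx hxc (reg_conj hareg V) ha'x hcomm).symm
  have htc : ∀ y : G, t * y = y * t := fun y => (mem_center_iff.1 hUa y).symm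
  have hUa' : (U : G) * a' * (U : G)⁻¹ = t * a' := by
    calc (U : G) * a' * (U : G)⁻¹ = c * ((V : G) * (t * a) * (V : G)⁻¹) * c⁻¹ := by
          rw [ha', ht, hc, commutatorElement_def, commutatorElement_def]; group
      _ = c * (t * a') * c⁻¹ := by rw [← mul_assoc (V : G) t a, ← htc (V : G)]; rw [ha']; group
      _ = t * (c * a' * c⁻¹) := by rw [← mul_assoc c t a', ← htc c]; group
      _ = t * a' := by rw [hca.eq]; group
  set b := a' * a⁻¹ with hb
  have hbU : Commute (U : G) b := by
    have h1 : (U : G) * b * (U : G)⁻¹ = b := by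
      calc (U : G) * b * (U : G)⁻¹ = ((U : G) * a' * (U : G)⁻¹) * ((U : G) * a * (U : G)⁻¹)⁻¹ := by
            rw [hb]; group
        _ = (t * a') * (t * a)⁻¹ := by
            rw [hUa', show (U : G) * a * (U : G)⁻¹ = t * a by rw [ht, commutatorElement_def]; group]
        _ = t * b * t⁻¹ := by rw [hb]; group
        _ = b := by rw [htc b]; group
    exact mul_inv_eq_iff_eq_mul.1 h1
  have hbZ : b ∈ center G := mem_center_of_fix S T hx hxc
    (reg_mul ((comm_reg S T hx hxc (reg_conj hareg V) ha'x (inv_mem hax)))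
      (reg_conj hareg V) (reg_inv hareg))
    (mul_mem ha'x (inv_mem hax)) hUn hbU
  refine hac (mem_center_of_fix S T hx hxc hareg hax hVn ?_)
  refine commute_of_comm_central ?_ ?_
  · rw [show ⁅(V : G), a⁆ = b by rw [hb, ha', commutatorElement_def]]
    exact hbZ
  · rw [← Subgroup.orderOf_coe] at hVk
    rw [hVk, hae]
    exact coprime_of_prime_pow hl hr hrl.symm

omit [Finite G] in
theorem primeSubgroups_eq {U : Type*} [Group U] [Finite U] {b s : ℕ} [Fact b.Prime] [Fact s.Prime]
    (hbs : b ≠ s) (hU : Nat.card U = b * s) :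
    Nat.card {K : Subgroup U // (Nat.card K).Prime} = Nat.card (Sylow b U) + Nat.card (Sylow s U) := by
  classical
  have hb : b.Prime := Fact.out
  have hs : s.Prime := Fact.out
  have fb : (Nat.card U).factorization b = 1 := by
    rw [hU, Nat.factorization_mul hb.ne_zero hs.ne_zero, Finsupp.add_apply, hb.factorization_self,
      Nat.factorization_eq_zero_of_not_dvd fun h => hbs ((Nat.prime_dvd_prime_iff_eq hb hs).1 h)]
  have fs : (Nat.card U).factorization s = 1 := by
    rw [hU, Nat.factorization_mul hb.ne_zero hs.ne_zero, Finsupp.add_apply, hs.factorization_self,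
      Nat.factorization_eq_zero_of_not_dvd fun h => hbs ((Nat.prime_dvd_prime_iff_eq hs hb).1 h).symm]
  rw [← Nat.card_sum]
  symm
  refine Nat.card_eq_of_bijective (Sum.elim
    (fun P : Sylow b U => (⟨(P : Subgroup U), by rw [P.card_eq_multiplicity, fb, pow_one]; exact hb⟩ :
      {K : Subgroup U // (Nat.card K).Prime}))
    (fun P : Sylow s U => ⟨(P : Subgroup U), by rw [P.card_eq_multiplicity, fs, pow_one]; exact hs⟩)) ⟨?_, ?_⟩
  · rintro (P | P) (Q | Q) h <;> have h' := congrArg Subtype.val h <;>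
      simp only [Sum.elim_inl, Sum.elim_inr] at h'
    · exact congrArg Sum.inl (Sylow.ext h')
    · have h'' := congrArg (fun K : Subgroup U => Nat.card K) h'
      simp only [P.card_eq_multiplicity, Q.card_eq_multiplicity, fb, fs, pow_one] at h''
      exact absurd h'' hbs
    · have h'' := congrArg (fun K : Subgroup U => Nat.card K) h'
      simp only [P.card_eq_multiplicity, Q.card_eq_multiplicity, fb, fs, pow_one] at h''
      exact absurd h''.symm hbs
    · exact congrArg Sum.inr (Sylow.ext h')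
  · rintro ⟨K, hK⟩
    have h1 : Nat.card K ∣ b * s := hU ▸ card_subgroup_dvd_card K
    rcases hK.dvd_mul.1 h1 with h | h
    · exact ⟨Sum.inl (Sylow.ofCard K (by rw [fb, pow_one]; exact (Nat.prime_dvd_prime_iff_eq hK hb).1 h)), rfl⟩
    · exact ⟨Sum.inr (Sylow.ofCard K (by rw [fs, pow_one]; exact (Nat.prime_dvd_prime_iff_eq hK hs).1 h)), rfl⟩

include S T hx hxc in
/-- No subgroup of the quotient has order `r · l`. -/
theorem false_of_card_mul {r l : ℕ} (hr : r.Prime) (hl : l.Prime) (hrl : r ≠ l) (hrp : r ≠ p)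
    (hgood : Good x r) (U : Subgroup (quo x)) (hU : Nat.card U = r * l) : False := by
  haveI := Fact.mk hr
  haveI := Fact.mk hl
  have hprime : ∀ u : U, u ≠ 1 → (orderOf u).Prime := by
    intro u hu
    have h1 : orderOf u ∣ r * l := hU ▸ orderOf_dvd_natCard u
    by_contra hnp
    have h2 : orderOf u = r * l := by
      obtain ⟨a, b, ha, hb, hab⟩ := dvd_mul.1 h1
      rcases (Nat.dvd_prime hr).1 ha with rfl | rfl <;> rcases (Nat.dvd_prime hl).1 hb with rfl | rfl
      · exact absurd (orderOf_eq_one_iff.1 (hab.trans (one_mul 1))) hu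
      · exact absurd (by rw [hab, one_mul]; exact hl) hnp
      · exact absurd (by rw [hab, mul_one]; exact hr) hnp
      · exact hab
    refine false_of_commute S T hx hxc hr hl hrl hrp hgood (u := ((u : quo x)) ^ l)
      (v := ((u : quo x)) ^ r) ?_ ?_ ((Commute.refl _).pow_pow l r)
    · rw [orderOf_pow' _ hl.ne_zero, Subgroup.orderOf_coe, h2, Nat.gcd_eq_right (dvd_mul_left l r),
        Nat.mul_div_cancel _ hl.pos]
    · rw [orderOf_pow' _ hr.ne_zero, Subgroup.orderOf_coe, h2, Nat.gcd_eq_right (dvd_mul_right r l),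
        Nat.mul_div_cancel_left _ hr.pos]
  haveI : Nontrivial U := Finite.one_lt_card_iff_nontrivial.1 (by
    rw [hU]; exact Nat.lt_of_lt_of_le hr.one_lt (Nat.le_mul_of_pos_right r hl.pos))
  have hk := primeSubgroups_eq hrl hU
  haveI := Fintype.ofFinite {K : Subgroup U // (Nat.card K).Prime}
  -- the numbers of Sylow subgroups
  have hnum : ∀ {r l : ℕ} (_ : Fact r.Prime) (_ : l.Prime), r ≠ l → Nat.card U = r * l →
      (Nat.card (Sylow r U) = 1 ∨ Nat.card (Sylow r U) = l) ∧ (l < r → Nat.card (Sylow r U) = 1) := by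
    intro r l hr hl hrl hU
    obtain ⟨P⟩ : Nonempty (Sylow r U) := inferInstance
    have h1 : Nat.card (Sylow r U) ∣ l := by
      have h2 : Nat.card (Sylow r U) ∣ r * l :=
        hU ▸ (P.card_dvd_index).trans (index_dvd_card (P : Subgroup U))
      refine (Nat.Coprime.dvd_mul_left ?_).1 h2
      have := card_sylow_modEq_one r U
      rw [Nat.ModEq] at this
      refine (hr.out.coprime_iff_not_dvd.2 fun h => ?_).symm
      rw [Nat.dvd_iff_mod_eq_zero] at h
      rw [h, Nat.mod_eq_of_lt hr.out.one_lt] at this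
      exact zero_ne_one this
    refine ⟨(Nat.dvd_prime hl).1 h1, fun hlt => ((Nat.dvd_prime hl).1 h1).resolve_right fun h => ?_⟩
    have := card_sylow_modEq_one r U
    rw [h, Nat.ModEq, Nat.mod_eq_of_lt hlt, Nat.mod_eq_of_lt hr.out.one_lt] at this
    exact hl.one_lt.ne' this
  obtain ⟨hr1, hr2⟩ := hnum (Fact.mk hr) hl hrl hU
  obtain ⟨hl1, hl2⟩ := hnum (Fact.mk hl) hr hrl.symm (by rw [hU, mul_comm])
  have hsum := sum_card_sub_one (U := U) hprime
  by_cases hboth : Nat.card (Sylow r U) = 1 ∧ Nat.card (Sylow l U) = 1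
  · -- two subgroups cannot cover
    have hle : ∀ K : {K : Subgroup U // (Nat.card K).Prime}, Nat.card (K : Subgroup U) - 1 ≤ max r l - 1 := by
      intro K
      have h1 : Nat.card (K : Subgroup U) ∣ r * l := hU ▸ card_subgroup_dvd_card _
      refine Nat.sub_le_sub_right ?_ 1
      rcases K.2.dvd_mul.1 h1 with h | h
      · exact ((Nat.prime_dvd_prime_iff_eq K.2 hr).1 h).le.trans (le_max_left _ _)
      · exact ((Nat.prime_dvd_prime_iff_eq K.2 hl).1 h).le.trans (le_max_right _ _)
    have h2 := Finset.sum_le_card_nsmul Finset.univ _ _ fun K _ => hle K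
    rw [hsum, hU, Finset.card_univ, ← Nat.card_eq_fintype_card, hk, hboth.1, hboth.2, smul_eq_mul] at h2
    have h3 := hr.two_le
    have h4 := hl.two_le
    rcases lt_or_gt_of_ne hrl with h | h
    · rw [max_eq_right h.le] at h2
      obtain ⟨i, rfl⟩ : ∃ i, l = i + 1 := ⟨l - 1, by omega⟩
      rcases (show r = 2 ∨ 3 ≤ r by omega) with rfl | h5
      · omega
      · have := Nat.mul_le_mul_right (i + 1) h5; omega
    · rw [max_eq_left h.le] at h2
      obtain ⟨i, rfl⟩ : ∃ i, r = i + 1 := ⟨r - 1, by omega⟩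
      rcases (show l = 2 ∨ 3 ≤ l by omega) with rfl | h5
      · omega
      · have := Nat.mul_le_mul_left (i + 1) h5; omega
  rcases lt_or_gt_of_ne hrl with h | h
  · have h1 := hl2 h
    have h2 : Nat.card (Sylow r U) = l := hr1.resolve_left fun hh => hboth ⟨hh, h1⟩
    exact false_of_partition S T hx hxc U hprime hl (by rw [hk, h1, h2])
  · have h1 := hr2 h
    have h2 : Nat.card (Sylow l U) = r := hl1.resolve_left fun hh => hboth ⟨h1, hh⟩
    exact false_of_partition S T hx hxc U hprime hr (by rw [hk, h1, h2, add_comm])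

include S T hx hxc in
/-- Commuting elements of order `r` are dependent. -/
theorem mem_zpowers_of_commute {r : ℕ} (hr : r.Prime) {u v : quo x} (hu : orderOf u = r)
    (hv : orderOf v = r) (huv : Commute u v) : v ∈ zpowers u := by
  by_contra hnot
  haveI := Fact.mk hr
  haveI : Fact (Nat.card (zpowers v)).Prime := ⟨by rw [Nat.card_zpowers, hv]; exact hr⟩
  have hd : Disjoint (zpowers v) (zpowers u) := by
    rw [disjoint_iff, ← card_eq_one]
    rcases (Nat.dvd_prime hr).1 (hv ▸ Nat.card_zpowers v ▸ card_dvd_of_le (inf_le_left (a := zpowers v) (b := zpowers u)))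
      with h | h
    · exact h
    · refine absurd ?_ hnot
      have : zpowers v ⊓ zpowers u = zpowers v :=
        eq_of_le_of_card_ge inf_le_left (by rw [h, Nat.card_zpowers, hv])
      exact (this.symm ▸ inf_le_right : zpowers v ≤ zpowers u) (mem_zpowers v)
  have hnorm : zpowers v ≤ normalizer ((zpowers u : Subgroup (quo x)) : Set (quo x)) := by
    rw [zpowers_le, mem_normalizer_iff]
    intro w
    have key : ∀ w ∈ zpowers u, Commute v w := fun w hw => by
      obtain ⟨i, rfl⟩ := mem_zpowers_iff.1 hw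
      exact (huv.zpow_left i).symm
    refine ⟨fun hw => by rw [(key w hw).eq, mul_inv_cancel_right]; exact hw, fun hw => ?_⟩
    have h2 := key _ hw
    have h3 : v * w * v⁻¹ = w := by
      calc v * w * v⁻¹ = v⁻¹ * (v * (v * w * v⁻¹)) := by group
        _ = v⁻¹ * (v * w * v⁻¹ * v) := by rw [h2.eq]
        _ = w := by group
    rwa [h3] at hw
  set U := zpowers v ⊔ zpowers u with hUdef
  have hU : Nat.card U = r * r := by
    rw [hUdef, Coprime.card_sup_of_disjoint hnorm hd, Nat.card_zpowers, Nat.card_zpowers, hu, hv]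
  have hexp : ∀ w ∈ U, w ^ r = 1 := by
    intro w hw
    obtain ⟨a, ha, b, hb, rfl⟩ := Coprime.exists_mul_of_mem_sup hnorm hw
    obtain ⟨i, rfl⟩ := mem_zpowers_iff.1 ha
    obtain ⟨j, rfl⟩ := mem_zpowers_iff.1 hb
    rw [(huv.symm.zpow_zpow i j).mul_pow, ← zpow_natCast, ← zpow_natCast, ← zpow_mul, ← zpow_mul,
      mul_comm i, mul_comm j, zpow_mul, zpow_mul, zpow_natCast, zpow_natCast]
    conv_lhs => rw [← hv, pow_orderOf_eq_one]
    conv_lhs => rw [one_zpow, one_mul, hv, ← hu, pow_orderOf_eq_one, one_zpow]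
  have hprime : ∀ w : U, w ≠ 1 → (orderOf w).Prime := fun w hw => by
    rw [orderOf_eq_prime (Subtype.ext (hexp w w.2)) hw]; exact hr
  haveI : Nontrivial U := Finite.one_lt_card_iff_nontrivial.1 (by
    rw [hU]; exact Nat.lt_of_lt_of_le hr.one_lt (Nat.le_mul_of_pos_right r hr.pos))
  haveI := Fintype.ofFinite {K : Subgroup U // (Nat.card K).Prime}
  have hall : ∀ K : {K : Subgroup U // (Nat.card K).Prime}, Nat.card (K : Subgroup U) = r := fun K => by
    have h1 : Nat.card (K : Subgroup U) ∣ r * r := hU ▸ card_subgroup_dvd_card _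
    rcases K.2.dvd_mul.1 h1 with h | h <;> exact (Nat.prime_dvd_prime_iff_eq K.2 hr).1 h
  have hsum := sum_card_sub_one (U := U) hprime
  rw [Finset.sum_congr rfl (fun K _ => by rw [hall K]), Finset.sum_const, Finset.card_univ,
    ← Nat.card_eq_fintype_card, hU, smul_eq_mul] at hsum
  refine false_of_partition S T hx hxc U hprime hr (Nat.eq_of_mul_eq_mul_right
    (Nat.sub_pos_of_lt hr.one_lt) ?_)
  rw [hsum, ← Nat.mul_self_sub_mul_self_eq r 1]

include S T hx hxc in
/-- Two good primes with abelian Sylow images are impossible. -/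
theorem false_of_two {q r : ℕ} [hq : Fact q.Prime] [hr : Fact r.Prime] (hqr : q ≠ r) (hqp : q ≠ p)
    (hrp : r ≠ p) (gq : Good x q) (gr : Good x r) (Q : Sylow q (quo x)) (R : Sylow r (quo x))
    (hQ : IsMulCommutative (Q : Subgroup (quo x))) (hR : IsMulCommutative (R : Subgroup (quo x)))
    (hQd : q ∣ Nat.card (quo x)) (hRd : r ∣ Nat.card (quo x)) : False := by
  -- an element normalising a subgroup of order `s`
  have hnormal : ∀ {s l : ℕ}, s.Prime → l.Prime → s ≠ l → s ≠ p → Good x s → ∀ {u v : quo x},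
      orderOf u = s → orderOf v = l → v * u * v⁻¹ ∈ zpowers u → False := by
    intro s l hs hl hsl hsp gs u v hu hv hn
    have hnorm : zpowers v ≤ normalizer ((zpowers u : Subgroup (quo x)) : Set (quo x)) := by
      have h1 : (zpowers u).map (MulAut.conj v).toMonoidHom = zpowers u := by
        refine eq_of_le_of_card_ge ?_ (card_map_of_injective (MulAut.conj v).injective).ge
        rw [MonoidHom.map_zpowers, zpowers_le]
        exact hn
      rw [zpowers_le, mem_normalizer_iff]
      intro w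
      constructor
      · intro hw; rw [← h1]; exact ⟨w, hw, rfl⟩
      · intro hw
        rw [← h1] at hw
        obtain ⟨w', hw', he⟩ := hw
        exact (MulAut.conj v).injective he ▸ hw'
    have hd : Disjoint (zpowers v) (zpowers u) := by
      rw [disjoint_iff]
      refine Coprime.inf_eq_bot_of_coprime ?_
      rw [Nat.card_zpowers, Nat.card_zpowers, hu, hv]
      exact (Nat.coprime_primes hl hs).2 hsl.symm
    refine false_of_card_mul S T hx hxc hs hl hsl hsp gs (zpowers v ⊔ zpowers u) ?_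
    rw [Coprime.card_sup_of_disjoint hnorm hd, Nat.card_zpowers, Nat.card_zpowers, hu, hv, mul_comm]
  -- a subgroup of prime order is unique in an abelian Sylow subgroup
  have hunique : ∀ {s : ℕ}, s.Prime → ∀ (K : Subgroup (quo x)), IsMulCommutative K → ∀ {u v : quo x},
      u ∈ K → v ∈ K → orderOf u = s → orderOf v = s → v ∈ zpowers u := by
    intro s hs K hK u v hu hv huo hvo
    exact mem_zpowers_of_commute S T hx hxc hs huo hvo
      (congrArg Subtype.val (hK.is_comm.comm ⟨u, hu⟩ ⟨v, hv⟩))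
  -- the Sylow r-subgroup is central in its normaliser
  have hRn : normalizer ((R : Subgroup (quo x)) : Set (quo x)) ≤ centralizer (R : Set (quo x)) := by
    have hp' : IsPGroup r (normalizer ((R : Subgroup (quo x)) : Set (quo x))) := by
      rw [IsPGroup.iff_card]
      refine ⟨_, Nat.eq_prime_pow_of_unique_prime_dvd Nat.card_pos.ne' fun {l} hl hld => ?_⟩
      by_contra hlr
      haveI := Fact.mk hl
      obtain ⟨v, hv⟩ := exists_prime_orderOf_dvd_card' l hld
      obtain ⟨u, hu⟩ := exists_prime_orderOf_dvd_card' r (R.dvd_card_of_dvd_card hRd)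
      refine hnormal hr.out hl (Ne.symm hlr) hrp gr (u := (u : quo x)) (v := (v : quo x))
        (by rw [Subgroup.orderOf_coe, hu]) (by rw [Subgroup.orderOf_coe, hv]) ?_
      refine hunique hr.out (R : Subgroup (quo x)) hR u.2 ((mem_normalizer_iff.1 v.2 _).1 u.2)
        (by rw [Subgroup.orderOf_coe, hu]) ?_
      rw [orderOf_conj', Subgroup.orderOf_coe, hu]
    intro w hw
    have hw' : w ∈ (R : Subgroup (quo x)) := (R.is_maximal' hp' le_normalizer).le hw
    exact mem_centralizer_iff.2 fun z hz => congrArg Subtype.val (hR.is_comm.comm ⟨z, hz⟩ ⟨w, hw'⟩)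
  set W₀ := (MonoidHom.transferSylow R hRn).ker
  have hW₀r : ¬ r ∣ Nat.card W₀ := MonoidHom.not_dvd_card_ker_transferSylow R hRn
  have hW₀i : W₀.index = Nat.card R :=
    (MonoidHom.ker_transferSylow_isComplement' R hRn).symm.index_eq_card
  have hW₀q : q ∣ Nat.card W₀ := by
    have h := hQd
    rw [← card_mul_index W₀, hW₀i] at h
    refine ((hq.out.dvd_mul).1 h).resolve_right fun h' => hqr ?_
    obtain ⟨k, hk⟩ := IsPGroup.iff_card.1 R.2
    rw [hk] at h'
    exact (Nat.prime_dvd_prime_iff_eq hq.out hr.out).1 (hq.out.dvd_of_dvd_pow h')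
  obtain ⟨Q₀⟩ : Nonempty (Sylow q W₀) := inferInstance
  set M := (Q₀ : Subgroup W₀).map W₀.subtype with hM
  obtain ⟨Q', hQ'⟩ := (Q₀.2.map W₀.subtype).exists_le_sylow
  have hQ'c : IsMulCommutative (Q' : Subgroup (quo x)) := by
    obtain ⟨g, rfl⟩ := MulAction.exists_smul_eq (quo x) Q Q'
    refine ⟨⟨fun a b => Subtype.ext ?_⟩⟩
    obtain ⟨a', ha', hae⟩ := a.2
    obtain ⟨b', hb', hbe⟩ := b.2
    show (a : quo x) * b = b * a
    rw [← hae, ← hbe]
    show MulAut.conj g a' * MulAut.conj g b' = MulAut.conj g b' * MulAut.conj g a'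
    rw [← map_mul, ← map_mul]
    exact congrArg _ (congrArg Subtype.val (hQ.is_comm.comm ⟨a', ha'⟩ ⟨b', hb'⟩))
  have hrN : r ∣ Nat.card (normalizer (M : Set (quo x))) := by
    have htop := Sylow.normalizer_sup_eq_top Q₀
    have h1 : Nat.card ↥(normalizer (M : Set (quo x)) ⊔ W₀) ∣
        Nat.card (normalizer (M : Set (quo x))) * Nat.card W₀ := Hall.card_sup_dvd _ _
    rw [hM, htop, card_top] at h1
    exact ((hr.out.dvd_mul).1 (hRd.trans h1)).resolve_right hW₀r
  obtain ⟨v, hv⟩ := exists_prime_orderOf_dvd_card' r hrN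
  obtain ⟨u, hu⟩ := exists_prime_orderOf_dvd_card' q (Q₀.dvd_card_of_dvd_card hW₀q)
  have huM : (((u : W₀)) : quo x) ∈ M := mem_map_of_mem _ u.2
  have huo : orderOf (((u : W₀)) : quo x) = q := by rw [Subgroup.orderOf_coe, Subgroup.orderOf_coe, hu]
  refine hnormal hq.out hr.out hqr hqp gq (u := ((u : W₀) : quo x)) (v := (v : quo x)) huo
    (by rw [Subgroup.orderOf_coe, hv]) ?_
  exact hunique hq.out (Q' : Subgroup (quo x)) hQ'c (hQ' huM)
    (hQ' ((mem_normalizer_iff.1 v.2 _).1 huM)) huo (by rw [orderOf_conj', huo])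

end Cfsg.Agent.Lib.TwoPRegular
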